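import Groth.Agent.L18.Contract.Expand

/-!
# The components of a function detect its values on the lines
-/

set_option autoImplicit false
set_option linter.style.haveILetI false
set_option backward.isDefEq.respectTransparency false

noncomputable section

universe u

open CategoryTheory CategoryTheory.Limits AlgebraicGeometry TopologicalSpace Opposite
open Groth.L18
open Groth.L18.Frame (rs ro rs_rs rs_self rs_smul ro_ro ro_self IsFrame)
open Groth.L18.NormDesc (pf pf_rs pf_smul isFrame_pf)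

namespace Groth.L18.Contract

/-- The value of a function on an affine scheme mapped to an open. -/
def evalSpec {V : Scheme.{u}} {R : CommRingCat.{u}} (k : Spec R ⟶ V) {O : V.Opens}
    (hO : (⊤ : (Spec R).Opens) ≤ k ⁻¹ᵁ O) : Γ(V, O) →+* R :=
  (k.appLE O ⊤ hO ≫ (Scheme.ΓSpecIso R).hom).hom

theorem evalSpec_comp {V : Scheme.{u}} {R S : CommRingCat.{u}} (φ : R ⟶ S) (k : Spec R ⟶ V) {O : V.Opens}
    (hO : (⊤ : (Spec R).Opens) ≤ k ⁻¹ᵁ O) (k' : Spec S ⟶ V) (hk : Spec.map φ ≫ k = k')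
    (hO' : (⊤ : (Spec S).Opens) ≤ k' ⁻¹ᵁ O) (f : Γ(V, O)) : evalSpec k' hO' f = φ.hom (evalSpec k hO f) := by
  show (k'.appLE O ⊤ hO' ≫ (Scheme.ΓSpecIso S).hom).hom f = (k.appLE O ⊤ hO ≫ (Scheme.ΓSpecIso R).hom ≫ φ).hom f
  rw [← Scheme.ΓSpecIso_naturality]
  simp only [← hk]
  rw [← Scheme.Hom.appLE_comp_appLE (Spec.map φ) k O ⊤ ⊤ hO le_top, Category.assoc]
  simp [Scheme.Hom.appLE]

theorem mem_basicOpen_evalSpec {V : Scheme.{u}} {R : CommRingCat.{u}} (k : Spec R ⟶ V) {O : V.Opens}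
    (hO : (⊤ : (Spec R).Opens) ≤ k ⁻¹ᵁ O) (f : Γ(V, O)) (x : (Spec R :)) :
    k.base x ∈ V.basicOpen f ↔ evalSpec k hO f ∉ x.asIdeal := by
  have h := Scheme.basicOpen_appLE k ⊤ O hO f
  rw [basicOpen_eq_of_affine', top_inf_eq] at h
  rw [show k.base x ∈ V.basicOpen f ↔ x ∈ k ⁻¹ᵁ V.basicOpen f from Iff.rfl, ← h]
  rfl

variable {X : Scheme.{u}} {L : X.Modules} {𝒜 : RelProj.QCGrAlg X} {jL : L ⟶ 𝒜.toModule}
  [Coh.IsQCoh L] (hA : RelProj.IsGrSymAlg L 𝒜 jL) (h0 : RelCone.StrZeroBij 𝒜)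
  {aug : 𝒜.toQCAlg ⟶ RelSpec.QCAlg.unit X} (haug : RelCone.IsAugmentation 𝒜 aug)
  {j0 : X ⟶ 𝒜.toQCAlg.spec} (hj0 : RelCone.IsVertex 𝒜 aug j0)
  {V0 : 𝒜.toQCAlg.spec.Opens} (hV0 : (V0 : Set 𝒜.toQCAlg.spec) = (Set.range j0.base)ᶜ)

theorem mem_basicOpen_iff_prime {U : X.Opens} (hU : IsAffineOpen U) (y : U) (c : Γ(X, U)) :
    y.1 ∈ X.basicOpen c ↔ c ∉ (hU.primeIdealOf y).asIdeal := by
  conv_lhs => rw [← hU.fromSpec_primeIdealOf y]
  show hU.primeIdealOf y ∈ hU.fromSpec ⁻¹ᵁ X.basicOpen c ↔ _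
  rw [hU.fromSpec_preimage_basicOpen]
  rfl

include hA h0 haug hj0 hV0 in
/-- The zero point and the generic point of the line over a point. -/
theorem exists_line_points {U : X.Opens} (hU : IsAffineOpen U) {e : Γ(L, U)} (he : IsFrame L U e) (y : U) :
    ∃ u w : (Spec (𝒜.presheaf.obj (op U)) :),
      (∀ p, polyHom jL e p ∈ u.asIdeal ↔ p.coeff 0 ∈ (hU.primeIdealOf y).asIdeal) ∧
      (∀ p, polyHom jL e p ∈ w.asIdeal ↔ ∀ k, p.coeff k ∈ (hU.primeIdealOf y).asIdeal) ∧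
      (𝒜.toQCAlg.ι U hU).base u = j0.base y.1 ∧ (𝒜.toQCAlg.ι U hU).base w ∈ V0 ∧
      𝒜.toQCAlg.π.base ((𝒜.toQCAlg.ι U hU).base w) = y.1 ∧
      ∀ O : 𝒜.toQCAlg.spec.Opens, j0.base y.1 ∈ O → (𝒜.toQCAlg.ι U hU).base w ∈ O := by
  classical
  let Φ := RingEquiv.ofBijective (polyHom jL e) (polyHom_bijective hA hU he)
  let z := (hU.primeIdealOf y).asIdeal
  have hzp : z.IsPrime := (hU.primeIdealOf y).isPrime
  let u : (Spec (𝒜.presheaf.obj (op U)) :) := (Spec.map (aug.hom.app (op U))).base (hU.primeIdealOf y)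
  haveI := hzp
  haveI : (Ideal.map (Polynomial.C : Γ(X, U) →+* _) z).IsPrime := Ideal.isPrime_map_C_of_isPrime
  let w : (Spec (𝒜.presheaf.obj (op U)) :) :=
    ⟨(Ideal.map (Polynomial.C : Γ(X, U) →+* _) z).comap Φ.symm.toRingHom, Ideal.IsPrime.comap _⟩
  have haugp : ∀ p, (aug.hom.app (op U)).hom (polyHom jL e p) = p.coeff 0 := by
    intro p
    induction p using Polynomial.induction_on' with
    | add p q hp hq => rw [map_add, map_add, hp, hq, Polynomial.coeff_add]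
    | monomial k c =>
      rw [polyHom, Polynomial.coe_eval₂RingHom, Polynomial.eval₂_monomial, Polynomial.coeff_monomial]
      refine (map_mul _ _ _).trans ?_
      rw [Cone.aug_str, map_pow, show (aug.hom.app (op U)).hom (SymInv.gen jL e) = 0 from haug U hU 0 _ (hA.2 U hU e)]
      rcases k with _ | k <;> simp
  have hu : ∀ p, polyHom jL e p ∈ u.asIdeal ↔ p.coeff 0 ∈ z := fun p => by
    show (aug.hom.app (op U)).hom (polyHom jL e p) ∈ z ↔ _
    rw [haugp]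
  have hw : ∀ p, polyHom jL e p ∈ w.asIdeal ↔ ∀ k, p.coeff k ∈ z := fun p => by
    show Φ.symm (Φ p) ∈ Ideal.map (Polynomial.C : Γ(X, U) →+* _) z ↔ _
    rw [RingEquiv.symm_apply_apply, Ideal.mem_map_C_iff]
  have huj : (𝒜.toQCAlg.ι U hU).base u = j0.base y.1 := by
    refine Eq.trans ?_ (congrArg j0.base (hU.fromSpec_primeIdealOf y))
    exact (congrArg (fun m => m.base (hU.primeIdealOf y)) (hj0.chart U hU)).symm
  refine ⟨u, w, hu, hw, huj, ?_, ?_, fun O hO => ?_⟩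
  · have hb : (𝒜.toQCAlg.ι U hU).base w ∈ 𝒜.toQCAlg.spec.basicOpen (lin jL e) := by
      rw [lin, mem_basicOpen_gfun, show jL.app U e = polyHom jL e Polynomial.X from by
        simp [polyHom], hw]
      intro h
      exact hzp.ne_top (z.eq_top_iff_one.2 (by simpa using h 1))
    exact ((basicOpen_lin jL hA h0 haug hj0 V0 hV0 he).le hb).1
  · rw [← Scheme.Hom.comp_apply, 𝒜.toQCAlg.ι_π, Scheme.Hom.comp_apply]
    conv_rhs => rw [← hU.fromSpec_primeIdealOf y]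
    refine congrArg hU.fromSpec.base (PrimeSpectrum.ext ?_)
    ext c
    show (𝒜.str.app (op U)).hom c ∈ w.asIdeal ↔ _
    rw [show (𝒜.str.app (op U)).hom c = polyHom jL e (Polynomial.C c) from by simp [polyHom], hw]
    exact ⟨fun h => by simpa using h 0, fun h k => by rw [Polynomial.coeff_C]; split <;> simp [z, h]⟩
  · have hs : w ⤳ u := (PrimeSpectrum.le_iff_specializes w u).1 fun r hr => by
      obtain ⟨p, rfl⟩ := (polyHom_bijective hA hU he).2 r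
      exact (hu p).2 ((hw p).1 hr 0)
    exact (hs.map (𝒜.toQCAlg.ι U hU).continuous).mem_open O.2 (huj.symm ▸ hO)

include hA h0 haug hj0 in
/-- A function near the zero point as a fraction, compatible with its expansions. -/
theorem exists_fraction {U : X.Opens} (hU : IsAffineOpen U) {e : Γ(L, U)} (he : IsFrame L U e) (y : U)
    {O : 𝒜.toQCAlg.spec.Opens} (hO : U ≤ j0 ⁻¹ᵁ O) (f : Γ(𝒜.toQCAlg.spec, O))
    {u w : (Spec (𝒜.presheaf.obj (op U)) :)}
    (hu : ∀ p, polyHom jL e p ∈ u.asIdeal ↔ p.coeff 0 ∈ (hU.primeIdealOf y).asIdeal)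
    (hw : ∀ p, polyHom jL e p ∈ w.asIdeal ↔ ∀ k, p.coeff k ∈ (hU.primeIdealOf y).asIdeal)
    (huj : (𝒜.toQCAlg.ι U hU).base u = j0.base y.1) :
    ∃ (g h : Polynomial Γ(X, U)) (m : ℕ), h.coeff 0 ∉ (hU.primeIdealOf y).asIdeal ∧
      ((𝒜.toQCAlg.ι U hU).base w ∈ 𝒜.toQCAlg.spec.basicOpen f ↔ ∃ k, g.coeff k ∉ (hU.primeIdealOf y).asIdeal) ∧
      (j0.base y.1 ∈ 𝒜.toQCAlg.spec.basicOpen f ↔ g.coeff 0 ∉ (hU.primeIdealOf y).asIdeal) ∧
      ∀ (N : ℕ) (r : Polynomial Γ(X, U)),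
        Ideal.Quotient.mk _ (polyHom jL e r) = theta hU N (jetι_le h0 haug hj0 hU N hO) f →
          ∃ M : ℕ, Polynomial.X ^ N ∣ h ^ M * (h ^ m * r - g) := by
  classical
  let R := 𝒜.presheaf.obj (op U)
  have hΦ := polyHom_bijective hA hU he
  obtain ⟨_, ⟨H₀, rfl⟩, huH, hHO⟩ := PrimeSpectrum.isTopologicalBasis_basic_opens.exists_subset_of_mem_open
    (show u ∈ 𝒜.toQCAlg.ι U hU ⁻¹ᵁ O from (show (𝒜.toQCAlg.ι U hU).base u ∈ O by rw [huj]; exact hO y.2))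
    (𝒜.toQCAlg.ι U hU ⁻¹ᵁ O).2
  obtain ⟨h, rfl⟩ := hΦ.2 H₀
  let H := polyHom jL e h
  let RH : CommRingCat.{u} := CommRingCat.of (Localization.Away H)
  let k : Spec RH ⟶ 𝒜.toQCAlg.spec :=
    Spec.map (CommRingCat.ofHom (algebraMap R (Localization.Away H))) ≫ 𝒜.toQCAlg.ι U hU
  have hk : (⊤ : (Spec RH).Opens) ≤ k ⁻¹ᵁ O := fun x _ => hHO (by
    show _ ∈ (PrimeSpectrum.basicOpen H : Set (PrimeSpectrum R))
    rw [← PrimeSpectrum.localization_away_comap_range (Localization.Away H) H]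
    exact ⟨x, rfl⟩)
  obtain ⟨m, G, hG⟩ := IsLocalization.Away.surj H (evalSpec k hk f : Localization.Away H)
  obtain ⟨g, rfl⟩ := hΦ.2 G
  have hh : h.coeff 0 ∉ (hU.primeIdealOf y).asIdeal := fun hc => huH ((hu h).2 hc)
  have hunit : IsUnit (algebraMap R (Localization.Away H) H) := IsLocalization.Away.algebraMap_isUnit H
  have hval : ∀ (x : (Spec R :)), H ∉ x.asIdeal →
      ((𝒜.toQCAlg.ι U hU).base x ∈ 𝒜.toQCAlg.spec.basicOpen f ↔ polyHom jL e g ∉ x.asIdeal) := by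
    intro x hx
    obtain ⟨x', rfl⟩ : x ∈ Set.range (PrimeSpectrum.comap (algebraMap R (Localization.Away H))) := by
      rw [PrimeSpectrum.localization_away_comap_range (Localization.Away H) H]
      exact hx
    refine (mem_basicOpen_evalSpec k hk f x').trans ?_
    show _ ↔ algebraMap R (Localization.Away H) (polyHom jL e g) ∉ x'.asIdeal
    rw [← hG]
    refine not_congr ⟨fun h => Ideal.mul_mem_right _ _ h, fun h => (x'.isPrime.mem_or_mem h).resolve_right fun h' => ?_⟩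
    exact x'.isPrime.ne_top (Ideal.eq_top_of_isUnit_mem _ h' (hunit.pow m))
  refine ⟨g, h, m, hh, ?_, ?_, fun N r hr => ?_⟩
  · rw [hval w fun hwH => hh ((hw h).1 hwH 0), hw, not_forall]
  · rw [← huj, hval u huH, hu]
  · let J := (HomogeneousIdeal.irrelevant (𝒜.deg U hU)).toIdeal
    let Hb : jet 𝒜 U hU N := Ideal.Quotient.mk _ H
    let S : CommRingCat.{u} := CommRingCat.of (Localization.Away Hb)
    let ψ : (R ⧸ J ^ N) →+* Localization.Away Hb := algebraMap _ _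
    let χ : Localization.Away H →+* Localization.Away Hb :=
      IsLocalization.Away.lift H (g := ψ.comp (Ideal.Quotient.mk (J ^ N)))
        (IsLocalization.Away.algebraMap_isUnit Hb)
    have hχ : ∀ a, χ (algebraMap R _ a) = ψ (Ideal.Quotient.mk (J ^ N) a) := fun a => IsLocalization.Away.lift_eq H _ a
    have hcomm : Spec.map (CommRingCat.ofHom ψ) ≫ jetι 𝒜 U hU N = Spec.map (CommRingCat.ofHom χ) ≫ k := by
      simp only [jetι, k, ← Category.assoc, ← Spec.map_comp]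
      congr 2
      ext a
      exact (hχ a).symm
    have hS : (⊤ : (Spec S).Opens) ≤ (Spec.map (CommRingCat.ofHom χ) ≫ k) ⁻¹ᵁ O := fun x _ => hk trivial
    have h1 := evalSpec_comp (CommRingCat.ofHom χ) k hk _ rfl hS f
    have h2 := evalSpec_comp (CommRingCat.ofHom ψ) (jetι 𝒜 U hU N) (jetι_le h0 haug hj0 hU N hO) _ hcomm hS f
    rw [show evalSpec (jetι 𝒜 U hU N) (jetι_le h0 haug hj0 hU N hO) f = Ideal.Quotient.mk _ (polyHom jL e r) from hr.symm] at h2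
    have h3 : ψ (Ideal.Quotient.mk (J ^ N) (polyHom jL e (h ^ m * r - g))) = 0 := by
      have h4 := congrArg χ hG
      rw [map_mul, map_pow, hχ, hχ, show χ (evalSpec k hk f) = ψ (Ideal.Quotient.mk (J ^ N) (polyHom jL e r)) from
        h1.symm.trans h2, ← map_pow, ← map_pow, ← map_mul, ← map_mul] at h4
      rw [map_sub, map_sub, map_sub, sub_eq_zero, ← h4, map_mul, map_pow, mul_comm]
    rw [IsLocalization.map_eq_zero_iff (Submonoid.powers Hb) (Localization.Away Hb)] at h3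
    obtain ⟨⟨_, M, rfl⟩, hM⟩ := h3
    refine ⟨M, ?_⟩
    change Hb ^ M * _ = 0 at hM
    rw [show Hb ^ M = Ideal.Quotient.mk (J ^ N) (polyHom jL e (h ^ M)) from by rw [map_pow, map_pow], ← map_mul, ← map_mul,
      Ideal.Quotient.eq_zero_iff_mem] at hM
    have hle : J ^ N ≤ Ideal.span {SymInv.gen jL e ^ N} := by
      rw [← Ideal.span_singleton_pow]
      exact Ideal.pow_right_mono (SymInv.irrelevant_le_span hA hU he) N
    obtain ⟨d, hd⟩ := Ideal.mem_span_singleton.1 (hle hM)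
    obtain ⟨d', rfl⟩ := hΦ.2 d
    refine ⟨d', hΦ.1 ?_⟩
    rw [hd, map_mul, map_pow]
    simp [polyHom]

include hA h0 haug hj0 hV0 in
/-- The components detect the values of a function along the lines. -/
theorem exists_components (hL : PicF.IsInvertible L) {Ω : X.Opens} {O : 𝒜.toQCAlg.spec.Opens}
    (hO : Ω ≤ j0 ⁻¹ᵁ O) (f : Γ(𝒜.toQCAlg.spec, O)) :
    ∃ σ : ∀ n, Γ(CohB1.tensorPow L n, Ω),
      (∀ y ∈ Ω, j0.base y ∉ 𝒜.toQCAlg.spec.basicOpen f → y ∉ secLocus (σ 0)) ∧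
      (∀ y ∈ Ω, (∀ v ∈ V0, 𝒜.toQCAlg.π.base v = y → v ∉ 𝒜.toQCAlg.spec.basicOpen f) → ∀ n, y ∉ secLocus (σ n)) ∧
      (∀ (U : X.Opens) (hU : IsAffineOpen U) (_ : U ≤ Ω) (e : Γ(L, U)), IsFrame L U e → ∀ (y : U)
        (w : (Spec (𝒜.presheaf.obj (op U)) :)),
        (∀ p, polyHom jL e p ∈ w.asIdeal ↔ ∀ k, p.coeff k ∈ (hU.primeIdealOf y).asIdeal) →
        (𝒜.toQCAlg.ι U hU).base w ∈ 𝒜.toQCAlg.spec.basicOpen f → ∃ n, y.1 ∈ secLocus (σ n)) := by
  choose σ hσ using exists_comp_sec h0 haug hj0 hL hA hO f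
  have key : ∀ (U : X.Opens) (hU : IsAffineOpen U) (h : U ≤ Ω) (e : Γ(L, U)), IsFrame L U e → ∀ (y : U) (N : ℕ),
      ∃ r : Polynomial Γ(X, U), Ideal.Quotient.mk _ (polyHom jL e r) = theta hU N (jetι_le h0 haug hj0 hU N (h.trans hO)) f ∧
        ∀ n < N, (y.1 ∈ secLocus (σ n) ↔ r.coeff n ∉ (hU.primeIdealOf y).asIdeal) := by
    intro U hU h e he y N
    obtain ⟨R₀, hR₀⟩ := Ideal.Quotient.mk_surjective (theta hU N (jetι_le h0 haug hj0 hU N (h.trans hO)) f)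
    obtain ⟨r, rfl⟩ := (polyHom_bijective hA hU he).2 R₀
    refine ⟨r, hR₀, fun n hn => ?_⟩
    have h1 := secLocus_inf_eq (σ n) (isFrame_pf he n) h (hσ n U hU h e he N hn r hR₀)
    rw [← mem_basicOpen_iff_prime hU y, ← h1]
    exact ⟨fun h' => ⟨h', y.2⟩, fun h' => h'.1⟩
  refine ⟨σ, fun y hy hf => ?_, fun y hy hf n => ?_, fun U hU h e he y w hw hf => ?_⟩
  · obtain ⟨U, hU, e, hyU, hUΩ, he⟩ := SymInv.exists_affine_frame (L := L) hL y Ω hy
    obtain ⟨u, w, hu, hw, huj, -, -, -⟩ := exists_line_points hA h0 haug hj0 hV0 hU he ⟨y, hyU⟩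
    obtain ⟨g, h, m, hh, -, hg0, hrel⟩ := exists_fraction hA h0 haug hj0 hU he ⟨y, hyU⟩ (hUΩ.trans hO) f hu hw huj
    obtain ⟨r, hr, hmem⟩ := key U hU hUΩ e he ⟨y, hyU⟩ 1
    obtain ⟨M, d, hd⟩ := hrel 1 r hr
    haveI := (hU.primeIdealOf ⟨y, hyU⟩).isPrime
    rw [hmem 0 one_pos, not_not]
    have h2 := congrArg Polynomial.constantCoeff hd
    simp only [map_mul, map_sub, map_pow] at h2
    rw [show Polynomial.constantCoeff (Polynomial.X : Polynomial Γ(X, U)) = 0 from by simp, zero_pow one_ne_zero,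
      zero_mul, mul_sub, sub_eq_zero] at h2
    have h3 : (Polynomial.constantCoeff h) ^ M * ((Polynomial.constantCoeff h) ^ m * Polynomial.constantCoeff r) ∈
        (hU.primeIdealOf ⟨y, hyU⟩).asIdeal := by
      rw [h2]
      exact Ideal.mul_mem_left _ _ (by simpa using not_not.1 (mt hg0.2 hf))
    rw [← mul_assoc, ← pow_add] at h3
    exact ((Ideal.IsPrime.mem_or_mem ‹_› h3).resolve_left fun h4 => hh (Ideal.IsPrime.mem_of_pow_mem ‹_› _ h4))
  · obtain ⟨U, hU, e, hyU, hUΩ, he⟩ := SymInv.exists_affine_frame (L := L) hL y Ω hy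
    obtain ⟨u, w, hu, hw, huj, hw0, hwy, -⟩ := exists_line_points hA h0 haug hj0 hV0 hU he ⟨y, hyU⟩
    obtain ⟨g, h, m, hh, hgw, -, hrel⟩ := exists_fraction hA h0 haug hj0 hU he ⟨y, hyU⟩ (hUΩ.trans hO) f hu hw huj
    obtain ⟨r, hr, hmem⟩ := key U hU hUΩ e he ⟨y, hyU⟩ (n + 1)
    obtain ⟨M, hd⟩ := hrel (n + 1) r hr
    haveI := (hU.primeIdealOf ⟨y, hyU⟩).isPrime
    rw [hmem n n.lt_succ_self, not_not]
    refine coeff_mem_of_expansion _ hh (fun k => ?_) hd n n.lt_succ_self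
    by_contra hk
    exact hf _ hw0 hwy (hgw.2 ⟨k, hk⟩)
  · obtain ⟨u, w', hu, hw', huj, -, -, -⟩ := exists_line_points hA h0 haug hj0 hV0 hU he y
    obtain ⟨g, h', m, hh, hgw, -, hrel⟩ := exists_fraction hA h0 haug hj0 hU he y (h.trans hO) f hu hw huj
    obtain ⟨r, hr, hmem⟩ := key U hU h e he y (g.natDegree + 1)
    obtain ⟨M, hd⟩ := hrel _ r hr
    haveI := (hU.primeIdealOf y).isPrime
    obtain ⟨k, hk, hk'⟩ := exists_coeff_notMem_of_expansion _ hh (hgw.1 hf) (Nat.lt_succ_self _) hd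
    exact ⟨k, (hmem k hk).2 hk'⟩

end Groth.L18.Contract
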