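import Groth.Agent.L18.NormModule

/-!
# Ampleness over an open through sections of powers
-/

set_option autoImplicit false
set_option linter.style.haveILetI false
set_option backward.isDefEq.respectTransparency false

noncomputable section

universe u

open CategoryTheory CategoryTheory.Limits AlgebraicGeometry TopologicalSpace Opposite
open Groth.L18
open Groth.L18.Frame (rs ro rs_rs rs_self rs_smul ro_ro ro_self IsFrame)
open Groth.L18.GenLoc Groth.L18.Ample Groth.L18.NormDesc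

namespace Groth.L18.Contract

variable {X : Scheme.{u}} {K : X.Modules}

/-- Where a section over an open generates. -/
def secLocus {Ω : X.Opens} (σ : Γ(K, Ω)) : X.Opens :=
  ⨆ O : {O : X.Opens // ∃ hO : O ≤ Ω, IsFrame K O (rs K hO σ)}, O.1

theorem mem_secLocus {Ω : X.Opens} (σ : Γ(K, Ω)) {z : X} :
    z ∈ secLocus σ ↔ ∃ (O : X.Opens) (hO : O ≤ Ω), z ∈ O ∧ IsFrame K O (rs K hO σ) := by
  rw [secLocus, Opens.mem_iSup]
  exact ⟨fun ⟨⟨O, hO, hf⟩, hz⟩ => ⟨O, hO, hz, hf⟩, fun ⟨O, hO, hz, hf⟩ => ⟨⟨O, hO, hf⟩, hz⟩⟩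

theorem secLocus_le {Ω : X.Opens} (σ : Γ(K, Ω)) : secLocus σ ≤ Ω := iSup_le fun O => O.2.1

theorem secLocus_inf_eq {Ω W : X.Opens} (σ : Γ(K, Ω)) {e : Γ(K, W)} (he : IsFrame K W e) (hW : W ≤ Ω)
    {c : Γ(X, W)} (hc : c • e = rs K hW σ) : secLocus σ ⊓ W = X.basicOpen c := by
  ext z
  constructor
  · rintro ⟨hz, hzW⟩
    exact (frame_nhd_iff σ he hW hc hzW).1 ((mem_secLocus σ).1 hz)
  · intro hz
    exact ⟨(mem_secLocus σ).2 ((frame_nhd_iff σ he hW hc (X.basicOpen_le c hz)).2 hz), X.basicOpen_le c hz⟩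

/-- The module over the open as a map, with the same locus. -/
theorem genLocus_homOfSection_restrict {Ω : X.Opens} (σ : Γ(K, Ω)) :
    CohB1.genLocus _ (Groth.L16.homOfSection _
      (show Γ(K.restrict Ω.ι, ⊤) from rs K Ω.ι_image_top.le σ)) = Ω.ι ⁻¹ᵁ secLocus σ := by
  ext w
  exact (mem_genLocus_restrict_iff K Ω σ w).trans (mem_secLocus σ).symm

theorem exists_sec_of_isAmple {L : X.Modules} {Ω : X.Opens} (h : CohB1.IsAmple (L.restrict Ω.ι)) {x : X}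
    (hx : x ∈ Ω) : ∃ (n : ℕ) (σ : Γ(CohB1.tensorPow L (n + 1), Ω)), x ∈ secLocus σ ∧ IsAffineOpen (secLocus σ) := by
  obtain ⟨n, s, hxs, haff⟩ := h.2.2 ⟨x, hx⟩
  let s₁ := s ≫ (Groth.L00.Tensor.tensorPowRestrict Ω.ι L (n + 1)).hom
  let σ : Γ(CohB1.tensorPow L (n + 1), Ω) := rs (CohB1.tensorPow L (n + 1)) Ω.ι_image_top.ge (secOf s₁)
  have e0 : rs (CohB1.tensorPow L (n + 1)) Ω.ι_image_top.le σ = secOf s₁ := (rs_rs _ _ _ _).trans (rs_self _ _ _)
  have hG : Ω.ι ⁻¹ᵁ secLocus σ = CohB1.genLocus _ s := by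
    rw [← genLocus_homOfSection_restrict, ← (Groth.L16.genLocus_comp_iso s _ : CohB1.genLocus _ s₁ = _)]
    refine congrArg (CohB1.genLocus _) ?_
    exact (congrArg (Groth.L16.homOfSection ((CohB1.tensorPow L (n + 1)).restrict Ω.ι)) e0).trans (homOfSection_secOf s₁)
  refine ⟨n, σ, hG.ge hxs, ?_⟩
  have himg : Ω.ι ''ᵁ CohB1.genLocus _ s = secLocus σ := by
    rw [← hG, Scheme.Hom.image_preimage_eq_opensRange_inf, Scheme.Opens.opensRange_ι, inf_eq_right]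
    exact secLocus_le σ
  rw [← himg]
  exact haff.image_of_isOpenImmersion Ω.ι

theorem isAmple_of_secs {L : X.Modules} (hL : PicF.IsInvertible L) {Ω : X.Opens} (hΩ : IsCompact (Ω : Set X))
    (h : ∀ x ∈ Ω, ∃ (n : ℕ) (σ : Γ(CohB1.tensorPow L (n + 1), Ω)) (U : X.Opens),
      IsAffineOpen U ∧ U ≤ Ω ∧ x ∈ secLocus σ ∧ secLocus σ ≤ U) :
    CohB1.IsAmple (L.restrict Ω.ι) := by
  refine ⟨isInvertible_restrict hL Ω, isCompact_iff_compactSpace.1 hΩ, fun w => ?_⟩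
  obtain ⟨n, σ, U, hU, hUΩ, hxσ, hle⟩ := h w.1 w.2
  let σ₁ : Coh.structureModule Ω.toScheme ⟶ (CohB1.tensorPow L (n + 1)).restrict Ω.ι :=
    Groth.L16.homOfSection _ (show Γ((CohB1.tensorPow L (n + 1)).restrict Ω.ι, ⊤) from
      rs (CohB1.tensorPow L (n + 1)) Ω.ι_image_top.le σ)
  refine ⟨n, σ₁ ≫ (Groth.L00.Tensor.tensorPowRestrict Ω.ι L (n + 1)).inv, ?_⟩
  rw [show CohB1.genLocus _ (σ₁ ≫ (Groth.L00.Tensor.tensorPowRestrict Ω.ι L (n + 1)).inv) = CohB1.genLocus _ σ₁ from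
    Groth.L16.genLocus_comp_iso σ₁ (Groth.L00.Tensor.tensorPowRestrict Ω.ι L (n + 1)).symm,
    show CohB1.genLocus _ σ₁ = Ω.ι ⁻¹ᵁ secLocus σ from genLocus_homOfSection_restrict σ]
  refine ⟨hxσ, ?_⟩
  have hU' : IsAffineOpen (Ω.ι ⁻¹ᵁ U) := by
    rw [← Scheme.Hom.isAffineOpen_iff_of_isOpenImmersion Ω.ι, Scheme.Hom.image_preimage_eq_opensRange_inf,
      Scheme.Opens.opensRange_ι, inf_eq_right.mpr hUΩ]
    exact hU
  have := isAffineOpen_genLocus_inf (isInvertible_restrict (isInvertible_tensorPow hL (n + 1)) Ω) σ₁ hU'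
  rw [show CohB1.genLocus _ σ₁ = Ω.ι ⁻¹ᵁ secLocus σ from genLocus_homOfSection_restrict σ,
    inf_eq_left.mpr (Ω.ι.preimage_mono hle)] at this
  exact this

end Groth.L18.Contract
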