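import Groth.Agent.L18.SymInvertible
import Groth.Agent.L18.RelCone
import Groth.Agent.L18.RelSpecAlg
import Groth.Agent.L18.NormModule

/-!
# Functions on the line bundle: fibre coordinates
-/

set_option autoImplicit false
set_option linter.style.haveILetI false
set_option backward.isDefEq.respectTransparency false

noncomputable section

universe u

open CategoryTheory CategoryTheory.Limits AlgebraicGeometry TopologicalSpace Opposite
open Groth.L18
open Groth.L18.Frame (rs ro rs_rs rs_self rs_smul ro_ro ro_self IsFrame)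

namespace Groth.L18.Contract

/-- Sections of a relative spectrum from sections of the algebra. -/
def gfun {S : Scheme.{u}} (A : RelSpec.QCAlg S) (U : S.Opens) : A.presheaf.obj (op U) →+* Γ(A.spec, A.π ⁻¹ᵁ U) :=
  ((RelSpecAlg.gammaIso A).inv.app (op U)).hom

theorem gfun_res {S : Scheme.{u}} (A : RelSpec.QCAlg S) {U V : S.Opens} (h : V ≤ U) (x : A.presheaf.obj (op U)) :
    ro (A.π.preimage_mono h) (gfun A U x) = gfun A V ((A.presheaf.map (homOfLE h).op).hom x) :=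
  (ConcreteCategory.congr_hom ((RelSpecAlg.gammaIso A).inv.naturality (homOfLE h).op) x).symm

theorem gfun_str {S : Scheme.{u}} (A : RelSpec.QCAlg S) (U : S.Opens) (r : Γ(S, U)) :
    gfun A U ((A.str.app (op U)).hom r) = A.π.app U r := by
  have h : A.str ≫ (RelSpecAlg.gammaIso A).inv = A.π.c :=
    (Iso.comp_inv_eq _).mpr A.π_c_gammaMap.symm
  exact ConcreteCategory.congr_hom (NatTrans.congr_app h (op U)) r

theorem gammaAff_gfun {S : Scheme.{u}} (A : RelSpec.QCAlg S) {U : S.Opens} (hU : IsAffineOpen U)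
    (x : A.presheaf.obj (op U)) : A.gammaAff U hU (gfun A U x) = x := by
  rw [← A.gammaMap_app U hU]
  exact ConcreteCategory.congr_hom (NatTrans.congr_app (RelSpecAlg.gammaIso A).inv_hom_id (op U)) x

theorem appLE_gfun {S : Scheme.{u}} (A : RelSpec.QCAlg S) {U : S.Opens} (hU : IsAffineOpen U)
    (x : A.presheaf.obj (op U)) :
    (A.ι U hU).appLE (A.π ⁻¹ᵁ U) ⊤ (A.top_le_preimage U hU) (gfun A U x) =
      (Scheme.ΓSpecIso (A.presheaf.obj (op U))).inv x := by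
  conv_rhs => rw [← gammaAff_gfun A hU x]
  exact (ConcreteCategory.congr_hom (Scheme.ΓSpecIso (A.presheaf.obj (op U))).hom_inv_id _).symm

theorem mem_basicOpen_gfun {S : Scheme.{u}} (A : RelSpec.QCAlg S) {U : S.Opens} (hU : IsAffineOpen U)
    (x : A.presheaf.obj (op U)) (z : (Spec (A.presheaf.obj (op U)) :)) :
    (A.ι U hU).base z ∈ A.spec.basicOpen (gfun A U x) ↔ x ∉ z.asIdeal := by
  have h := Scheme.basicOpen_appLE (A.ι U hU) ⊤ (A.π ⁻¹ᵁ U) (A.top_le_preimage U hU) (gfun A U x)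
  rw [appLE_gfun, basicOpen_eq_of_affine' , top_inf_eq] at h
  rw [show (A.ι U hU).base z ∈ A.spec.basicOpen (gfun A U x) ↔ z ∈ A.ι U hU ⁻¹ᵁ A.spec.basicOpen (gfun A U x) from
    Iff.rfl, ← h, Iso.inv_hom_id_apply]
  rfl

variable {X : Scheme.{u}} {L : X.Modules} {𝒜 : RelProj.QCGrAlg X} (jL : L ⟶ 𝒜.toModule)

/-- The function on the line bundle given by a section. -/
def lin {U : X.Opens} (e : Γ(L, U)) : Γ(𝒜.toQCAlg.spec, 𝒜.toQCAlg.π ⁻¹ᵁ U) :=
  gfun 𝒜.toQCAlg U (jL.app U e)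

theorem lin_rs {U V : X.Opens} (h : V ≤ U) (e : Γ(L, U)) :
    ro (𝒜.toQCAlg.π.preimage_mono h) (lin jL e) = lin jL (rs L h e) := by
  rw [lin, gfun_res _ h]
  exact congrArg _ (ConcreteCategory.congr_hom (jL.mapPresheaf.naturality (homOfLE h).op) e).symm

theorem lin_smul {U : X.Opens} (c : Γ(X, U)) (e : Γ(L, U)) :
    lin jL (c • e) = 𝒜.toQCAlg.π.app U c * lin jL e := by
  rw [lin, lin, ← gfun_str, ← map_mul]
  exact congrArg _ (Scheme.Modules.Hom.app_smul jL c e)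

variable (hA : RelProj.IsGrSymAlg L 𝒜 jL) (h0 : RelCone.StrZeroBij 𝒜)
  {aug : 𝒜.toQCAlg ⟶ RelSpec.QCAlg.unit X} (haug : RelCone.IsAugmentation 𝒜 aug)
  {j0 : X ⟶ 𝒜.toQCAlg.spec} (hj0 : RelCone.IsVertex 𝒜 aug j0)
  (V0 : 𝒜.toQCAlg.spec.Opens) (hV0 : (V0 : Set 𝒜.toQCAlg.spec) = (Set.range j0.base)ᶜ)

include hj0 in
theorem j0_le (U : X.Opens) : U ≤ j0 ⁻¹ᵁ (𝒜.toQCAlg.π ⁻¹ᵁ U) := by
  rw [← Scheme.Hom.comp_preimage, hj0.comp_π]
  exact le_rfl

include hj0 in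
theorem j0_gfun {U : X.Opens} (hU : IsAffineOpen U) (x : 𝒜.presheaf.obj (op U)) :
    j0.appLE (𝒜.toQCAlg.π ⁻¹ᵁ U) U (j0_le hj0 U) (gfun 𝒜.toQCAlg U x) = (aug.hom.app (op U)).hom x := by
  have hinj : Function.Injective (hU.fromSpec.appLE U ⊤ hU.fromSpec_preimage_self.ge) := by
    refine ((ConcreteCategory.isIso_iff_bijective _).mp ?_).1
    rw [Scheme.Hom.appLE, IsAffineOpen.fromSpec_app_self]
    haveI : IsIso (homOfLE hU.fromSpec_preimage_self.ge) :=
      ⟨homOfLE hU.fromSpec_preimage_self.le, rfl, rfl⟩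
    infer_instance
  refine hinj ?_
  rw [← CommRingCat.comp_apply, Scheme.Hom.appLE_comp_appLE]
  simp only [hj0.chart U hU]
  rw [← Scheme.Hom.appLE_comp_appLE (Spec.map (aug.hom.app (op U))) (𝒜.toQCAlg.ι U hU) (𝒜.toQCAlg.π ⁻¹ᵁ U) ⊤ ⊤
    (𝒜.toQCAlg.top_le_preimage U hU) le_top, CommRingCat.comp_apply, appLE_gfun]
  rw [show (Spec.map (aug.hom.app (op U))).appLE ⊤ ⊤ le_top = (Spec.map (aug.hom.app (op U))).appTop from by
    simp [Scheme.Hom.appLE], ← CommRingCat.comp_apply, ← Scheme.ΓSpecIso_inv_naturality]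
  rw [CommRingCat.comp_apply]
  rw [Scheme.Hom.appLE, IsAffineOpen.fromSpec_app_self]
  simp only [Category.assoc, ← Functor.map_comp]
  rw [CommRingCat.comp_apply]
  show _ = (Spec Γ(X, U)).presheaf.map _ _
  rw [Subsingleton.elim (_ ≫ _) (𝟙 _), CategoryTheory.Functor.map_id]
  rfl

include hA haug hj0 in
theorem j0_lin {U : X.Opens} (e : Γ(L, U)) :
    j0.appLE (𝒜.toQCAlg.π ⁻¹ᵁ U) U (j0_le hj0 U) (lin jL e) = 0 := by
  refine TopCat.Sheaf.eq_of_locally_eq' ⟨X.presheaf, X.sheaf.property⟩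
    (fun W : {W : X.affineOpens // (W.1 : X.Opens) ≤ U} => (W.1.1 : X.Opens)) U (fun W => homOfLE W.2) ?_ _ _ fun W => ?_
  · intro x hx
    obtain ⟨W, hW, hxW, hWU⟩ := exists_isAffineOpen_mem_and_subset hx
    exact Opens.mem_iSup.2 ⟨⟨⟨W, hW⟩, hWU⟩, hxW⟩
  · obtain ⟨⟨W, hW⟩, hWU⟩ := W
    rw [map_zero]
    rw [← CommRingCat.comp_apply, Scheme.Hom.appLE_map,
      ← Scheme.Hom.map_appLE j0 (j0_le hj0 W) (homOfLE (𝒜.toQCAlg.π.preimage_mono hWU)).op, CommRingCat.comp_apply,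
      show (𝒜.toQCAlg.spec.presheaf.map (homOfLE (𝒜.toQCAlg.π.preimage_mono hWU)).op).hom (lin jL e) =
        lin jL (rs L hWU e) from lin_rs jL hWU e, lin, j0_gfun hj0 hW]
    exact haug W hW 0 _ (hA.2 W hW _)

include hA h0 haug hj0 hV0 in
/-- Off the zero section the coordinate is invertible. -/
theorem basicOpen_lin [Coh.IsQCoh L] {U : X.Opens} {e : Γ(L, U)} (he : IsFrame L U e) :
    𝒜.toQCAlg.spec.basicOpen (lin jL e) = V0 ⊓ 𝒜.toQCAlg.π ⁻¹ᵁ U := by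
  have key : ∀ (W : X.Opens) (hW : IsAffineOpen W) (e : Γ(L, W)), IsFrame L W e → ∀ v, 𝒜.toQCAlg.π.base v ∈ W →
      (v ∈ 𝒜.toQCAlg.spec.basicOpen (lin jL e) ↔ v ∈ V0) := by
    intro W hW e he v hv
    obtain ⟨z, rfl⟩ := RSGlue.exists_ι_eq 𝒜.toQCAlg W hW v hv
    rw [lin, mem_basicOpen_gfun, ← SetLike.mem_coe (p := V0), hV0, Set.mem_compl_iff,
      Cone.preimage_range_vertex h0 haug hj0 W hW z, not_not]
    refine not_congr ⟨fun h y hy => ?_, fun h => h ?_⟩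
    · exact (Ideal.span_singleton_le_iff_mem _).2 h (SymInv.irrelevant_le_span hA hW he hy)
    · exact HomogeneousIdeal.mem_irrelevant_of_mem _ one_pos (hA.2 W hW e)
  ext v
  constructor
  · intro hv
    have hvU : 𝒜.toQCAlg.π.base v ∈ U := 𝒜.toQCAlg.spec.basicOpen_le _ hv
    obtain ⟨W, hW, hxW, hWU⟩ := exists_isAffineOpen_mem_and_subset hvU
    refine ⟨(key W hW _ (he.mono hWU) v hxW).1 ?_, hvU⟩
    rw [← lin_rs, Scheme.basicOpen_res]
    exact ⟨hxW, hv⟩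
  · rintro ⟨hv, hvU⟩
    obtain ⟨W, hW, hxW, hWU⟩ := exists_isAffineOpen_mem_and_subset (show 𝒜.toQCAlg.π.base v ∈ U from hvU)
    have := (key W hW _ (he.mono hWU) v hxW).2 hv
    rw [← lin_rs, Scheme.basicOpen_res] at this
    exact this.2

end Groth.L18.Contract
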