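import Groth.Agent.L18.AffAlg
import Groth.Agent.L18.Contract.Basic
import Mathlib.CategoryTheory.Sites.Limits
import Mathlib.CategoryTheory.Limits.Types.Pullbacks
import Mathlib.CategoryTheory.Limits.FunctorCategory.Basic

/-!
# The cone contracting the zero section
-/

set_option autoImplicit false
set_option linter.style.haveILetI false
set_option backward.isDefEq.respectTransparency false

noncomputable section

universe u

open CategoryTheory CategoryTheory.Limits AlgebraicGeometry TopologicalSpace Opposite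
open Groth.L18
open Groth.L18.Frame (rs ro rs_rs rs_self rs_smul ro_ro ro_self IsFrame)

namespace Groth.L18.Contract

theorem algHom_app_eq {S A B : Scheme.{u}} (f : A ⟶ S) (g : B ⟶ S) (h : B ⟶ A) (w : h ≫ f = g) (U : S.Opens)
    (e : g ⁻¹ᵁ U ≤ h ⁻¹ᵁ (f ⁻¹ᵁ U)) :
    (AffAlg.algHom f g h w).app (op U) = h.appLE (f ⁻¹ᵁ U) (g ⁻¹ᵁ U) e := by
  subst w
  rw [algHom_app_rfl, Scheme.Hom.app_eq_appLE]
  rfl

/-- The preimage of a basic open in terms of the comorphism. -/
theorem preimage_basicOpen_appLE {A B : Scheme.{u}} (h : B ⟶ A) {U : A.Opens} {W : B.Opens} (e : W = h ⁻¹ᵁ U)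
    (x : Γ(A, U)) : h ⁻¹ᵁ A.basicOpen x = B.basicOpen (h.appLE U W e.le x) := by
  rw [Scheme.basicOpen_appLE, e, inf_eq_right.mpr (h.preimage_mono (A.basicOpen_le x))]

variable {Y T X : Scheme.{u}} (r : T ⟶ Y) (p : X ⟶ Y) (j : X ⟶ T) (w : j ≫ r = p)

/-- Two sheaves of rings mapping to the direct image. -/
abbrev pushS {Z : Scheme.{u}} (h : Z ⟶ Y) : Sheaf (Opens.grothendieckTopology Y) CommRingCat.{u} :=
  ⟨h.base _* Z.presheaf, TopCat.Sheaf.pushforward_sheaf_of_sheaf _ Z.sheaf.property⟩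

/-- Restriction along `j`, as a map of sheaves. -/
abbrev restrS : pushS r ⟶ pushS p := InducedCategory.homMk (AffAlg.algHom r p j w)

/-- The comorphism, as a map of sheaves. -/
abbrev strS {Z : Scheme.{u}} (h : Z ⟶ Y) : Y.sheaf ⟶ pushS h := InducedCategory.homMk h.c

/-- The fibre product of the direct image algebra and the structure sheaf. -/
def coneSheaf : Sheaf (Opens.grothendieckTopology Y) CommRingCat.{u} :=
  pullback (restrS r p j w) (strS p)

/-- The first projection. -/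
def cfst (W : Y.Opens) : (coneSheaf r p j w).obj.obj (op W) →+* Γ(T, r ⁻¹ᵁ W) :=
  ((pullback.fst (restrS r p j w) (strS p)).hom.app (op W)).hom

/-- The second projection. -/
def csnd (W : Y.Opens) : (coneSheaf r p j w).obj.obj (op W) →+* Γ(Y, W) :=
  ((pullback.snd (restrS r p j w) (strS p)).hom.app (op W)).hom

include w in
theorem preimage_eq (W : Y.Opens) : p ⁻¹ᵁ W = j ⁻¹ᵁ (r ⁻¹ᵁ W) := by
  subst w
  rfl

theorem cfst_res {W W' : Y.Opens} (h : W' ≤ W) (b : (coneSheaf r p j w).obj.obj (op W)) :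
    cfst r p j w W' (((coneSheaf r p j w).obj.map (homOfLE h).op).hom b) =
      ro (r.preimage_mono h) (cfst r p j w W b) :=
  ConcreteCategory.congr_hom
    ((pullback.fst (restrS r p j w) (strS p)).hom.naturality
      (homOfLE h).op) b

theorem csnd_res {W W' : Y.Opens} (h : W' ≤ W) (b : (coneSheaf r p j w).obj.obj (op W)) :
    csnd r p j w W' (((coneSheaf r p j w).obj.map (homOfLE h).op).hom b) = ro h (csnd r p j w W b) :=
  ConcreteCategory.congr_hom
    ((pullback.snd (restrS r p j w) (strS p)).hom.naturality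
      (homOfLE h).op) b

theorem cone_condition (W : Y.Opens) (b : (coneSheaf r p j w).obj.obj (op W)) :
    j.appLE (r ⁻¹ᵁ W) (p ⁻¹ᵁ W) (preimage_eq r p j w W).le (cfst r p j w W b) = p.app W (csnd r p j w W b) := by
  have h := ConcreteCategory.congr_hom (NatTrans.congr_app (congrArg (fun m => m.hom) (pullback.condition
    (f := (restrS r p j w)) (g := (strS p)))) (op W)) b
  rw [← algHom_app_eq r p j w W (preimage_eq r p j w W).le]
  exact h

theorem cone_isPullback (W : Y.Opens) :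
    IsPullback
      ((forget CommRingCat).map ((pullback.fst (restrS r p j w) (strS p)).hom.app (op W)))
      ((forget CommRingCat).map ((pullback.snd (restrS r p j w) (strS p)).hom.app (op W)))
      ((forget CommRingCat).map ((AffAlg.algHom r p j w).app (op W)))
      ((forget CommRingCat).map (p.c.app (op W))) :=
  (IsPullback.of_hasPullback (restrS r p j w) (strS p)).map
    (sheafToPresheaf _ _ ⋙ (evaluation _ _).obj (op W) ⋙ forget CommRingCat)

theorem cone_ext {W : Y.Opens} {b b' : (coneSheaf r p j w).obj.obj (op W)}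
    (h₁ : cfst r p j w W b = cfst r p j w W b') (h₂ : csnd r p j w W b = csnd r p j w W b') : b = b' :=
  Types.ext_of_isPullback (cone_isPullback r p j w W) h₁ h₂

theorem exists_cone {W : Y.Opens} (x : Γ(T, r ⁻¹ᵁ W)) (y : Γ(Y, W))
    (h : j.appLE (r ⁻¹ᵁ W) (p ⁻¹ᵁ W) (preimage_eq r p j w W).le x = p.app W y) :
    ∃ b, cfst r p j w W b = x ∧ csnd r p j w W b = y := by
  rw [← algHom_app_eq r p j w W (preimage_eq r p j w W).le] at h
  exact Types.exists_of_isPullback (cone_isPullback r p j w W) x y h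

/-- The structure map. -/
def coneStr : Y.sheaf ⟶ coneSheaf r p j w :=
  pullback.lift (strS r) (𝟙 _) (by
    refine InducedCategory.hom_ext ?_
    show r.c ≫ AffAlg.algHom r p j w = 𝟙 _ ≫ p.c
    rw [AffAlg.algHom_comm, Category.id_comp])

theorem cfst_str (W : Y.Opens) (a : Γ(Y, W)) :
    cfst r p j w W (((coneStr r p j w).hom.app (op W)).hom a) = r.app W a :=
  ConcreteCategory.congr_hom (NatTrans.congr_app (congrArg (fun m : Y.sheaf ⟶ pushS r => m.hom) (pullback.lift_fst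
    (f := (restrS r p j w)) (g := (strS p)) _ _ _)) (op W)) a

theorem csnd_str (W : Y.Opens) (a : Γ(Y, W)) :
    csnd r p j w W (((coneStr r p j w).hom.app (op W)).hom a) = a :=
  ConcreteCategory.congr_hom (NatTrans.congr_app (congrArg (fun m : Y.sheaf ⟶ Y.sheaf => m.hom) (pullback.lift_snd
    (f := (restrS r p j w)) (g := (strS p)) _ _ _)) (op W)) a

theorem app_res {Z : Scheme.{u}} (h : Z ⟶ Y) {U V : Y.Opens} (i : V ≤ U) (a : Γ(Y, U)) :
    ro (h.preimage_mono i) (h.app U a) = h.app V (ro i a) :=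
  (ConcreteCategory.congr_hom (h.naturality (homOfLE i).op) a).symm

theorem ro_pow' {Z : Scheme.{u}} {U V : Z.Opens} (h : V ≤ U) (a : Γ(Z, U)) (n : ℕ) : ro h (a ^ n) = ro h a ^ n :=
  map_pow (Z.presheaf.map (homOfLE h).op).hom a n

theorem away_lemma {Z : Scheme.{u}} (h : Z ⟶ Y) [QuasiCompact h] [QuasiSeparated h] {U : Y.Opens}
    (hU : IsAffineOpen U) (a : Γ(Y, U)) :
    (∀ z : Γ(Z, h ⁻¹ᵁ Y.basicOpen a), ∃ (n : ℕ) (x : Γ(Z, h ⁻¹ᵁ U)),
        z * ro (h.preimage_mono (Y.basicOpen_le a)) (h.app U a) ^ n = ro (h.preimage_mono (Y.basicOpen_le a)) x) ∧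
      ∀ x : Γ(Z, h ⁻¹ᵁ U), ro (h.preimage_mono (Y.basicOpen_le a)) x = 0 → ∃ n : ℕ, h.app U a ^ n * x = 0 := by
  letI : Algebra Γ(Z, h ⁻¹ᵁ U) Γ(Z, h ⁻¹ᵁ Y.basicOpen a) :=
    (Z.presheaf.map (homOfLE (h.preimage_mono (Y.basicOpen_le a))).op).hom.toAlgebra
  haveI : IsLocalization.Away (h.app U a) Γ(Z, h ⁻¹ᵁ Y.basicOpen a) := RelSpec.QCAlg.isQC_pushforward h U hU a
  refine ⟨fun z => ?_, fun x hx => ?_⟩
  · obtain ⟨n, x, hx⟩ := IsLocalization.Away.surj (h.app U a) z
    exact ⟨n, x, hx⟩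
  · obtain ⟨⟨_, n, rfl⟩, hn⟩ := (IsLocalization.map_eq_zero_iff (Submonoid.powers (h.app U a))
      Γ(Z, h ⁻¹ᵁ Y.basicOpen a) x).1 hx
    exact ⟨n, hn⟩

theorem cone_isQC [QuasiCompact r] [QuasiSeparated r] [QuasiCompact p] [QuasiSeparated p] :
    RelSpec.IsQC (coneSheaf r p j w).obj (coneStr r p j w).hom := by
  intro U hU a
  let B := coneSheaf r p j w
  let res : B.obj.obj (op U) →+* B.obj.obj (op (Y.basicOpen a)) :=
    (B.obj.map (homOfLE (Y.basicOpen_le a)).op).hom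
  let A : B.obj.obj (op U) := ((coneStr r p j w).hom.app (op U)).hom a
  letI := res.toAlgebra
  have hA1 : cfst r p j w (Y.basicOpen a) (res A) = ro (r.preimage_mono (Y.basicOpen_le a)) (r.app U a) :=
    (cfst_res r p j w (Y.basicOpen_le a) A).trans (congrArg _ (cfst_str r p j w U a))
  have hA2 : csnd r p j w (Y.basicOpen a) (res A) = ro (Y.basicOpen_le a) a :=
    (csnd_res r p j w (Y.basicOpen_le a) A).trans (congrArg _ (csnd_str r p j w U a))
  have hu : IsUnit (res A) := by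
    have h : res A = ((coneStr r p j w).hom.app (op (Y.basicOpen a))).hom (ro (Y.basicOpen_le a) a) :=
      (ConcreteCategory.congr_hom ((coneStr r p j w).hom.naturality (homOfLE (Y.basicOpen_le a)).op) a).symm
    rw [h]
    exact (RingedSpace.isUnit_res_basicOpen Y.toRingedSpace a).map _
  obtain ⟨hTs, hTi⟩ := away_lemma r hU a
  obtain ⟨hYs, hYi⟩ := away_lemma (𝟙 Y) hU a
  obtain ⟨-, hXi⟩ := away_lemma p hU a
  refine IsLocalization.Away.mk A hu (fun z => ?_) (fun b b' hbb => ?_)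
  · obtain ⟨n₁, x, hx⟩ := hTs (cfst r p j w (Y.basicOpen a) z)
    obtain ⟨n₂, y, hy⟩ := hYs (csnd r p j w (Y.basicOpen a) z)
    change Γ(Y, U) at y
    change csnd r p j w (Y.basicOpen a) z * ro (Y.basicOpen_le a) a ^ n₂ = ro (Y.basicOpen_le a) y at hy
    let jx : Γ(T, r ⁻¹ᵁ U) →+* Γ(X, p ⁻¹ᵁ U) := (j.appLE (r ⁻¹ᵁ U) (p ⁻¹ᵁ U) (preimage_eq r p j w U).le).hom
    have hjr : ∀ c, jx (r.app U c) = p.app U c := fun c => by
      have := cone_condition r p j w U (((coneStr r p j w).hom.app (op U)).hom c)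
      rwa [cfst_str, csnd_str] at this
    have hd : ro (p.preimage_mono (Y.basicOpen_le a))
        (jx (x * r.app U a ^ n₂) - p.app U (y * a ^ n₁)) = 0 := by
      have hjnat : ∀ c, ro (p.preimage_mono (Y.basicOpen_le a)) (jx c) =
          j.appLE (r ⁻¹ᵁ Y.basicOpen a) (p ⁻¹ᵁ Y.basicOpen a) (preimage_eq r p j w _).le
            (ro (r.preimage_mono (Y.basicOpen_le a)) c) := fun c => by
        simp only [jx, ro]
        rw [← CommRingCat.comp_apply, ← CommRingCat.comp_apply, Scheme.Hom.appLE_map, Scheme.Hom.map_appLE]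
      refine (map_sub _ _ _).trans (sub_eq_zero.2 ?_)
      refine (hjnat _).trans (Eq.trans ?_ (app_res p (Y.basicOpen_le a) _).symm)
      rw [Frame.ro_mul, ro_pow', ← hx, Frame.ro_mul, ro_pow', ← hy, map_mul, map_mul, map_pow, map_pow,
        cone_condition, app_res r (Y.basicOpen_le a),
        show j.appLE (r ⁻¹ᵁ Y.basicOpen a) (p ⁻¹ᵁ Y.basicOpen a) (preimage_eq r p j w _).le
            (r.app (Y.basicOpen a) (ro (Y.basicOpen_le a) a)) = p.app (Y.basicOpen a) (ro (Y.basicOpen_le a) a) from by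
          have := cone_condition r p j w (Y.basicOpen a)
            (((coneStr r p j w).hom.app (op (Y.basicOpen a))).hom (ro (Y.basicOpen_le a) a))
          rwa [cfst_str, csnd_str] at this, map_mul, map_pow, map_mul, map_pow]
      ring
    obtain ⟨k, hk⟩ := hXi _ hd
    obtain ⟨b, hb1, hb2⟩ := exists_cone r p j w (x * r.app U a ^ n₂ * r.app U a ^ k) (y * a ^ n₁ * a ^ k) (by
      show jx _ = _
      rw [map_mul, map_pow, hjr, map_mul (p.app U).hom, map_pow (p.app U).hom]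
      rw [mul_sub, sub_eq_zero] at hk
      rw [mul_comm, hk, mul_comm])
    refine ⟨n₁ + n₂ + k, b, cone_ext r p j w ?_ ?_⟩
    · show cfst r p j w _ (z * res A ^ (n₁ + n₂ + k)) = cfst r p j w _ (res b)
      rw [map_mul, map_pow, hA1, show cfst r p j w _ (res b) = _ from cfst_res r p j w (Y.basicOpen_le a) b, hb1,
        Frame.ro_mul, Frame.ro_mul, ro_pow', ro_pow', ← hx]
      ring
    · show csnd r p j w _ (z * res A ^ (n₁ + n₂ + k)) = csnd r p j w _ (res b)
      rw [map_mul, map_pow, hA2, show csnd r p j w _ (res b) = _ from csnd_res r p j w (Y.basicOpen_le a) b, hb2,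
        Frame.ro_mul, Frame.ro_mul, ro_pow', ro_pow', ← hy]
      ring
  · have h0 : res (b - b') = 0 := by rw [map_sub, sub_eq_zero]; exact hbb
    obtain ⟨k₁, hk₁⟩ := hTi (cfst r p j w U (b - b')) (by
      rw [← cfst_res r p j w (Y.basicOpen_le a), show ((B.obj.map (homOfLE (Y.basicOpen_le a)).op).hom (b - b')) = 0
        from h0, map_zero])
    obtain ⟨k₂, hk₂⟩ := hYi (csnd r p j w U (b - b')) (by
      show ro (Y.basicOpen_le a) _ = 0
      rw [← csnd_res r p j w (Y.basicOpen_le a), show ((B.obj.map (homOfLE (Y.basicOpen_le a)).op).hom (b - b')) = 0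
        from h0, map_zero])
    change a ^ k₂ * csnd r p j w U (b - b') = 0 at hk₂
    refine ⟨k₁ + k₂, sub_eq_zero.1 ?_⟩
    rw [← mul_sub]
    refine cone_ext r p j w ?_ ?_
    · rw [map_mul, map_pow, map_zero, cfst_str, pow_add, mul_comm (r.app U a ^ k₁), mul_assoc, hk₁, mul_zero]
    · rw [map_mul, map_pow, map_zero, csnd_str, pow_add, mul_assoc, hk₂, mul_zero]

/-- The cone algebra. -/
def coneAlg [QuasiCompact r] [QuasiSeparated r] [QuasiCompact p] [QuasiSeparated p] : RelSpec.QCAlg Y where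
  presheaf := (coneSheaf r p j w).obj
  isSheaf := (coneSheaf r p j w).property
  str := (coneStr r p j w).hom
  isQC := cone_isQC r p j w

variable [QuasiCompact r] [QuasiSeparated r] [QuasiCompact p] [QuasiSeparated p]

/-- An algebra map out of the cone algebra gives a morphism. -/
theorem exists_hom_to_spec (A : RelSpec.QCAlg Y) {Z : Scheme.{u}} (h : Z ⟶ Y) (φ : A.presheaf ⟶ h.base _* Z.presheaf)
    (hφ : A.str ≫ φ = h.c) :
    ∃ (q : Z ⟶ A.spec) (hq : q ≫ A.π = h),
      ∀ (W : Y.Opens) (b : A.presheaf.obj (op W)) (e : h ⁻¹ᵁ W ≤ q ⁻¹ᵁ (A.π ⁻¹ᵁ W)),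
        q.appLE (A.π ⁻¹ᵁ W) (h ⁻¹ᵁ W) e (gfun A W b) = (φ.app (op W)).hom b := by
  let ω : AffAlg.algHoms A.π h := ⟨A.gammaMap ≫ φ, by rw [← Category.assoc, A.π_c_gammaMap]; exact hφ⟩
  refine ⟨homOfAlg A.π h ω, homOfAlg_comp A.π h ω, fun W b e => ?_⟩
  rw [← algHom_app_eq A.π h (homOfAlg A.π h ω) (homOfAlg_comp A.π h ω) W e, algHom_homOfAlg]
  show (φ.app (op W)).hom ((A.gammaMap.app (op W)).hom (gfun A W b)) = _
  exact congrArg (φ.app (op W)).hom
    (ConcreteCategory.congr_hom (NatTrans.congr_app (RelSpecAlg.gammaIso A).inv_hom_id (op W)) b)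

/-- Two morphisms to a relative spectrum agreeing on the algebra are equal. -/
theorem hom_to_spec_ext (A : RelSpec.QCAlg Y) {Z : Scheme.{u}} (h : Z ⟶ Y) (q q' : Z ⟶ A.spec) (hq : q ≫ A.π = h)
    (hq' : q' ≫ A.π = h)
    (H : ∀ (W : Y.Opens) (b : A.presheaf.obj (op W)) (e : h ⁻¹ᵁ W ≤ q ⁻¹ᵁ (A.π ⁻¹ᵁ W))
      (e' : h ⁻¹ᵁ W ≤ q' ⁻¹ᵁ (A.π ⁻¹ᵁ W)),
      q.appLE (A.π ⁻¹ᵁ W) (h ⁻¹ᵁ W) e (gfun A W b) = q'.appLE (A.π ⁻¹ᵁ W) (h ⁻¹ᵁ W) e' (gfun A W b)) : q = q' := by
  have he : ∀ (m : Z ⟶ A.spec), m ≫ A.π = h → ∀ W, h ⁻¹ᵁ W ≤ m ⁻¹ᵁ (A.π ⁻¹ᵁ W) := fun m hm W => by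
    subst hm
    exact le_rfl
  have := algOf_injective A.π h (a₁ := (⟨q, hq⟩ : AffAlg.over A.π h)) (a₂ := ⟨q', hq'⟩) (Subtype.ext ?_)
  · exact congrArg Subtype.val this
  refine NatTrans.ext (funext fun ⟨W⟩ => CommRingCat.hom_ext (RingHom.ext fun x => ?_))
  show (AffAlg.algHom A.π h q hq).app (op W) x = (AffAlg.algHom A.π h q' hq').app (op W) x
  rw [algHom_app_eq A.π h q hq W (he q hq W), algHom_app_eq A.π h q' hq' W (he q' hq' W)]
  have hx : x = gfun A W ((A.gammaMap.app (op W)).hom x) :=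
    (ConcreteCategory.congr_hom (NatTrans.congr_app (RelSpecAlg.gammaIso A).hom_inv_id (op W)) x).symm
  rw [hx]
  exact H W _ (he q hq W) (he q' hq' W)

end Groth.L18.Contract
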