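import Groth.Agent.L18.Contract.ToContraction
import Mathlib.AlgebraicGeometry.Morphisms.Finite
import Mathlib.AlgebraicGeometry.Morphisms.Proper

/-!
# Grauert's criterion: the contraction
-/

set_option autoImplicit false
set_option linter.style.haveILetI false
set_option backward.isDefEq.respectTransparency false

noncomputable section

universe u

open CategoryTheory CategoryTheory.Limits AlgebraicGeometry TopologicalSpace Opposite
open Groth.L18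
open Groth.L18.Frame (rs ro rs_rs rs_self rs_smul ro_ro ro_self IsFrame)
open Groth.L18.NormDesc (pf pf_rs pf_smul isFrame_pf)

namespace Groth.L18.Contract

/-- A ring map to a polynomial ring whose image has the constants and a unit times a power of the variable is finite. -/
theorem finite_of_pow_mem {A R S : Type*} [CommRing A] [CommRing R] [CommRing S] (ψ : R →+* S) (i : A →+* S) (t : S)
    (hi : ∀ a, i a ∈ ψ.range) (hgen : ∀ s : S, ∃ P : Polynomial A, P.eval₂ i t = s) {m : ℕ}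
    (ht : t ^ (m + 1) ∈ ψ.range) : ψ.Finite := by
  letI := ψ.toAlgebra
  show Module.Finite R S
  obtain ⟨a, ha⟩ := ht
  have hint : IsIntegral R t := IsIntegral.of_pow m.succ_pos (ha ▸ isIntegral_algebraMap)
  haveI : Algebra.FiniteType R S := ⟨⟨{t}, by
    rw [eq_top_iff]
    rintro s -
    obtain ⟨P, rfl⟩ := hgen s
    rw [Polynomial.eval₂_eq_sum]
    refine Subalgebra.sum_mem _ fun k _ => ?_
    obtain ⟨c, hc⟩ := hi (P.coeff k)
    refine Subalgebra.mul_mem _ (hc ▸ Subalgebra.algebraMap_mem _ c) (Subalgebra.pow_mem _ ?_ _)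
    exact Algebra.subset_adjoin (by simp)⟩⟩
  haveI : Algebra.IsIntegral R S := ⟨fun s => by
    obtain ⟨P, rfl⟩ := hgen s
    rw [Polynomial.eval₂_eq_sum]
    refine IsIntegral.sum _ fun k _ => IsIntegral.mul ?_ (hint.pow _)
    obtain ⟨c, hc⟩ := hi (P.coeff k)
    exact hc ▸ isIntegral_algebraMap⟩
  exact Algebra.IsIntegral.finite

variable {X Y : Scheme.{u}} (p : X ⟶ Y) {L : X.Modules} [Coh.IsQCoh L] (hL : PicF.IsInvertible L)
  {𝒜 : RelProj.QCGrAlg X} {jL : L ⟶ 𝒜.toModule}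
  (hA : RelProj.IsGrSymAlg L 𝒜 jL) (h0 : RelCone.StrZeroBij 𝒜)
  {aug : 𝒜.toQCAlg ⟶ RelSpec.QCAlg.unit X} (haug : RelCone.IsAugmentation 𝒜 aug)
  {j0 : X ⟶ 𝒜.toQCAlg.spec} (hj0 : RelCone.IsVertex 𝒜 aug j0)
  (V0 : 𝒜.toQCAlg.spec.Opens) (hV0 : (V0 : Set 𝒜.toQCAlg.spec) = (Set.range j0.base)ᶜ)

include hA in
theorem finite_of_lin {U : X.Opens} (hU : IsAffineOpen U) {e : Γ(L, U)} (he : IsFrame L U e) {R : Type u} [CommRing R]
    (ψ : R →+* Γ(𝒜.toQCAlg.spec, 𝒜.toQCAlg.π ⁻¹ᵁ U)) (hi : ∀ a, 𝒜.toQCAlg.π.app U a ∈ ψ.range) {m : ℕ}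
    (ht : lin jL e ^ (m + 1) ∈ ψ.range) : ψ.Finite := by
  refine finite_of_pow_mem ψ (𝒜.toQCAlg.π.app U).hom (lin jL e) hi (fun s => ?_) ht
  classical
  let y : 𝒜.presheaf.obj (op U) := (𝒜.toQCAlg.gammaMap.app (op U)).hom s
  have hy : gfun 𝒜.toQCAlg U y = s :=
    ConcreteCategory.congr_hom (NatTrans.congr_app (RelSpecAlg.gammaIso 𝒜.toQCAlg).hom_inv_id (op U)) s
  have h : ∀ n, ∃ c, (DirectSum.decompose (𝒜.deg U hU) y n : 𝒜.presheaf.obj (op U)) =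
      (𝒜.str.app (op U)).hom c * SymInv.gen jL e ^ n := fun n =>
    (SymInv.mem_deg_iff hA hU he n _).1 (SetLike.coe_mem _)
  choose c hc using h
  refine ⟨∑ n ∈ (DirectSum.decompose (𝒜.deg U hU) y).support, Polynomial.monomial n (c n), ?_⟩
  conv_rhs => rw [← hy, ← DirectSum.sum_support_decompose (𝒜.deg U hU) y, map_sum]
  rw [Polynomial.eval₂_finsetSum]
  refine Finset.sum_congr rfl fun n _ => ?_
  rw [Polynomial.eval₂_monomial, hc, map_mul, map_pow, gfun_str]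
  rfl

include hL hA h0 haug hj0 hV0 in
/-- The properties of the morphism to the cone. -/
theorem contraction_props [QuasiCompact p] [IsSeparated p] (hamp : RelAmple.IsRelAmple p L)
    (q : 𝒜.toQCAlg.spec ⟶ (coneAlg (𝒜.toQCAlg.π ≫ p) p j0 (j0_comp p hj0)).spec)
    (hq : q ≫ (coneAlg (𝒜.toQCAlg.π ≫ p) p j0 (j0_comp p hj0)).π = 𝒜.toQCAlg.π ≫ p)
    (hqf : ∀ (W : Y.Opens) b e, q.appLE ((coneAlg (𝒜.toQCAlg.π ≫ p) p j0 (j0_comp p hj0)).π ⁻¹ᵁ W)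
      ((𝒜.toQCAlg.π ≫ p) ⁻¹ᵁ W) e (gfun _ W b) = cfst (𝒜.toQCAlg.π ≫ p) p j0 (j0_comp p hj0) W b)
    (ε : Y ⟶ (coneAlg (𝒜.toQCAlg.π ≫ p) p j0 (j0_comp p hj0)).spec)
    (hε : ε ≫ (coneAlg (𝒜.toQCAlg.π ≫ p) p j0 (j0_comp p hj0)).π = 𝟙 Y)
    (hεf : ∀ (W : Y.Opens) b e, ε.appLE ((coneAlg (𝒜.toQCAlg.π ≫ p) p j0 (j0_comp p hj0)).π ⁻¹ᵁ W)
      ((𝟙 Y : Y ⟶ Y) ⁻¹ᵁ W) e (gfun _ W b) = csnd (𝒜.toQCAlg.π ≫ p) p j0 (j0_comp p hj0) W b) :
    j0 ≫ q = p ≫ ε ∧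
      IsOpenImmersion (V0.ι ≫ q) ∧ QuasiCompact (V0.ι ≫ q) ∧
      Set.range (V0.ι ≫ q).base ∩ Set.range ε.base = ∅ ∧
      (IsProper p → IsProper q ∧ Set.range (V0.ι ≫ q).base = (Set.range ε.base)ᶜ) := by
  have w := j0_comp p hj0
  let B := coneAlg (𝒜.toQCAlg.π ≫ p) p j0 w
  have hqW : ∀ W : Y.Opens, (𝒜.toQCAlg.π ≫ p) ⁻¹ᵁ W = q ⁻¹ᵁ (B.π ⁻¹ᵁ W) := fun W => by
    rw [← Scheme.Hom.comp_preimage, hq]
  have hεW : ∀ W : Y.Opens, (𝟙 Y : Y ⟶ Y) ⁻¹ᵁ W = ε ⁻¹ᵁ (B.π ⁻¹ᵁ W) := fun W => by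
    rw [← Scheme.Hom.comp_preimage, hε]
  have hjq : j0 ≫ q = p ≫ ε := by
    refine hom_to_spec_ext B p _ _ (by rw [Category.assoc, hq, w]) (by rw [Category.assoc, hε, Category.comp_id])
      fun W b e e' => ?_
    have h1 := cone_condition (𝒜.toQCAlg.π ≫ p) p j0 w W b
    rw [show cfst (𝒜.toQCAlg.π ≫ p) p j0 w W b = _ from (hqf W b (hqW W).le).symm] at h1
    rw [← Scheme.Hom.appLE_comp_appLE j0 q (B.π ⁻¹ᵁ W) ((𝒜.toQCAlg.π ≫ p) ⁻¹ᵁ W) (p ⁻¹ᵁ W) (hqW W).le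
        (preimage_eq (𝒜.toQCAlg.π ≫ p) p j0 w W).le,
      ← Scheme.Hom.appLE_comp_appLE p ε (B.π ⁻¹ᵁ W) ((𝟙 Y : Y ⟶ Y) ⁻¹ᵁ W) (p ⁻¹ᵁ W) (hεW W).le le_rfl,
      CommRingCat.comp_apply, CommRingCat.comp_apply]
    refine h1.trans ?_
    rw [Scheme.Hom.app_eq_appLE]
    exact congrArg (p.appLE W (p ⁻¹ᵁ W) le_rfl) (hεf W b (hεW W).le).symm
  let Dset := {D : B.spec.Opens // ∃ (W : Y.Opens) (_ : IsAffineOpen W) (b : B.presheaf.obj (op W)),
    D = B.spec.basicOpen (gfun B W b) ∧ csnd (𝒜.toQCAlg.π ≫ p) p j0 w W b = 0 ∧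
    q ⁻¹ᵁ D ≤ V0 ∧ IsIso (q ∣_ D)}
  let D := ⨆ D : Dset, D.1
  have hchart : ∀ {W : Y.Opens} (hW : IsAffineOpen W) {x : X} (hx : x ∈ p ⁻¹ᵁ W), ∃ (n : ℕ)
      (σ : Γ(CohB1.tensorPow L (n + 1), p ⁻¹ᵁ W)) (f : Γ(𝒜.toQCAlg.spec, (𝒜.toQCAlg.π ≫ p) ⁻¹ᵁ W))
      (b : B.presheaf.obj (op W)), IsPowFun jL σ f ∧ cfst (𝒜.toQCAlg.π ≫ p) p j0 w W b = f ∧ x ∈ secLocus σ ∧
        IsAffineOpen (secLocus σ) ∧ V0 ⊓ 𝒜.toQCAlg.π ⁻¹ᵁ secLocus σ ≤ q ⁻¹ᵁ D := fun {W} hW {x} hx => by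
    obtain ⟨n, σ, f, b, hf, hb1, hb2, hxσ, hσa, hbas, hiso⟩ :=
      exists_cone_chart p hL hA h0 haug hj0 V0 hV0 hamp hq (fun W b e => hqf W b e) hW hx
    refine ⟨n, σ, f, b, hf, hb1, hxσ, hσa, ?_⟩
    rw [← hbas]
    exact q.preimage_mono (le_iSup (fun D : Dset => D.1)
      ⟨B.spec.basicOpen (gfun B W b), W, hW, b, rfl, hb2, hbas.le.trans inf_le_left, hiso⟩)
  have hqD : q ⁻¹ᵁ D = V0 := by
    refine le_antisymm ?_ fun v hv => ?_
    · rw [Scheme.Hom.preimage_iSup]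
      refine iSup_le fun D => ?_
      obtain ⟨W, hW, b, -, -, hle, -⟩ := D.2
      exact hle
    · obtain ⟨W, hW, hxW, -⟩ := exists_isAffineOpen_mem_and_subset (Opens.mem_top ((𝒜.toQCAlg.π ≫ p).base v))
      obtain ⟨n, σ, f, b, -, -, hxσ, -, hle⟩ := hchart hW (x := 𝒜.toQCAlg.π.base v) hxW
      exact hle ⟨hv, hxσ⟩
  haveI : IsIso (q ∣_ D) := by
    have hcov : ⨆ k : Dset, D.ι ⁻¹ᵁ k.1 = ⊤ := by
      rw [← Scheme.Hom.preimage_iSup]
      exact top_le_iff.1 fun z _ => z.2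
    refine IsZariskiLocalAtTarget.of_iSup_eq_top (P := MorphismProperty.isomorphisms Scheme.{u}) _ hcov fun k => ?_
    obtain ⟨W, hW, b, -, -, -, hiso⟩ := k.2
    rw [MorphismProperty.arrow_mk_iso_iff (P := MorphismProperty.isomorphisms Scheme.{u})
      (morphismRestrictRestrict q D (D.ι ⁻¹ᵁ k.1)),
      MorphismProperty.arrow_mk_iso_iff (P := MorphismProperty.isomorphisms Scheme.{u})
      (morphismRestrictEq q (show D.ι ''ᵁ (D.ι ⁻¹ᵁ k.1) = k.1 by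
        rw [Scheme.Hom.image_preimage_eq_opensRange_inf, Scheme.Opens.opensRange_ι, inf_eq_right]
        exact le_iSup (fun D : Dset => D.1) k))]
    exact hiso
  have hfac : V0.ι ≫ q = (𝒜.toQCAlg.spec.isoOfEq hqD.symm).hom ≫ (q ∣_ D) ≫ D.ι := by
    rw [morphismRestrict_ι, ← Category.assoc, Scheme.isoOfEq_hom_ι]
  have himm : IsOpenImmersion (V0.ι ≫ q) := by rw [hfac]; infer_instance
  have hrange : Set.range (V0.ι ≫ q).base = (D : Set B.spec) := by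
    rw [hfac]
    haveI : IsIso ((𝒜.toQCAlg.spec.isoOfEq hqD.symm).hom ≫ (q ∣_ D)) := inferInstance
    rw [← Category.assoc]
    have hsurj : Function.Surjective ((𝒜.toQCAlg.spec.isoOfEq hqD.symm).hom ≫ (q ∣_ D)).base :=
      (asIso ((𝒜.toQCAlg.spec.isoOfEq hqD.symm).hom ≫ (q ∣_ D))).hom.homeomorph.surjective
    rw [Scheme.Hom.comp_base, TopCat.coe_comp, hsurj.range_comp, Scheme.Opens.range_ι]
  have hdis : Set.range (V0.ι ≫ q).base ∩ Set.range ε.base = ∅ := by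
    rw [hrange, Set.eq_empty_iff_forall_notMem]
    rintro _ ⟨hz, y, rfl⟩
    obtain ⟨k, hk⟩ := Opens.mem_iSup.1 (show ε.base y ∈ ⨆ k : Dset, k.1 from hz)
    obtain ⟨W, hW, b, hk', hb2, -⟩ := k.2
    rw [hk'] at hk
    have h1 : y ∈ ε ⁻¹ᵁ B.spec.basicOpen (gfun B W b) := hk
    rw [preimage_basicOpen_appLE ε (hεW W), hεf] at h1
    change y ∈ Y.basicOpen (csnd (𝒜.toQCAlg.π ≫ p) p j0 w W b) at h1
    rw [hb2, Scheme.basicOpen_zero] at h1
    exact h1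
  have hqc : QuasiCompact (V0.ι ≫ q) := by
    haveI : QuasiCompact ((V0.ι ≫ q) ≫ B.π) := by
      rw [Category.assoc, hq]
      exact quasiCompact_V0 p hL hA h0 haug hj0 V0 hV0
    exact QuasiCompact.of_comp _ B.π
  refine ⟨hjq, himm, hqc, hdis, fun hp => ?_⟩
  haveI := hp
  -- `V ⟶ C ×_Y X` is finite
  let γ : 𝒜.toQCAlg.spec ⟶ pullback B.π p := pullback.lift q 𝒜.toQCAlg.π hq
  have hγfst : γ ≫ pullback.fst B.π p = q := pullback.lift_fst _ _ _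
  have hγsnd : γ ≫ pullback.snd B.π p = 𝒜.toQCAlg.π := pullback.lift_snd _ _ _
  haveI : IsAffineHom (pullback.snd B.π p) := MorphismProperty.pullback_snd _ _ inferInstance
  haveI : IsFinite γ := by
    have hloc : ∀ x : X, ∃ (U : X.Opens) (_ : IsAffineOpen U) (_ : x ∈ U) (W : Y.Opens) (_ : U ≤ p ⁻¹ᵁ W) (n : ℕ)
        (e : Γ(L, U)) (_ : IsFrame L U e) (b : B.presheaf.obj (op W)) (c : Γ(X, U)) (hle : 𝒜.toQCAlg.π ⁻¹ᵁ U ≤ (𝒜.toQCAlg.π ≫ p) ⁻¹ᵁ W),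
        IsUnit c ∧ ro hle (cfst (𝒜.toQCAlg.π ≫ p) p j0 w W b) = 𝒜.toQCAlg.π.app U c * lin jL e ^ (n + 1) := fun x => by
      obtain ⟨W, hW, hxW, -⟩ := exists_isAffineOpen_mem_and_subset (Opens.mem_top (p.base x))
      obtain ⟨n, σ, f, b, hf, hb1, hxσ, -, -⟩ := hchart hW (x := x) hxW
      obtain ⟨U, hU, e, hxU, hUG, he⟩ := SymInv.exists_affine_frame (L := L) hL x (secLocus σ) hxσ
      obtain ⟨c, hc⟩ := (isFrame_pf he (n + 1)).exists_coeff le_rfl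
        (rs (CohB1.tensorPow L (n + 1)) (hUG.trans (secLocus_le σ)) σ)
      rw [rs_self] at hc
      have h1 := secLocus_inf_eq σ (isFrame_pf he (n + 1)) (hUG.trans (secLocus_le σ)) hc
      rw [inf_eq_right.mpr hUG] at h1
      refine ⟨U, hU, hxU, W, hUG.trans (secLocus_le σ), n, e, he, b, c,
        𝒜.toQCAlg.π.preimage_mono (hUG.trans (secLocus_le σ)), ?_, ?_⟩
      · exact X.toRingedSpace.isUnit_of_isUnit_germ U c fun y hy => (Scheme.mem_basicOpen X c y hy).1 (h1.le hy)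
      · rw [hb1]
        exact hf U (hUG.trans (secLocus_le σ)) e c he hc
    choose U hU hxU W hUW n e he b c hle hcu hbc using hloc
    refine (HasAffineProperty.iff_of_iSup_eq_top (P := @IsFinite)
      (fun x : X => (⟨pullback.snd B.π p ⁻¹ᵁ U x, (hU x).preimage _⟩ : (pullback B.π p).affineOpens))
      (by rw [← Scheme.Hom.preimage_iSup, show ⨆ x, U x = ⊤ from top_le_iff.1 fun x _ => Opens.mem_iSup.2 ⟨x, hxU x⟩]; rfl)).2
      fun x => ?_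
    have hpre : γ ⁻¹ᵁ (pullback.snd B.π p ⁻¹ᵁ U x) = 𝒜.toQCAlg.π ⁻¹ᵁ U x := by
      rw [← Scheme.Hom.comp_preimage, hγsnd]
    haveI : IsAffine (γ ⁻¹ᵁ (pullback.snd B.π p ⁻¹ᵁ U x)).toScheme := by
      rw [hpre]; exact (hU x).preimage 𝒜.toQCAlg.π
    refine ⟨‹_›, ?_⟩
    show ((γ ∣_ (pullback.snd B.π p ⁻¹ᵁ U x)).app ⊤).hom.Finite
    rw [Scheme.Hom.app_eq_appLE, morphismRestrict_appLE]
    have hfin : ((γ.appLE (pullback.snd B.π p ⁻¹ᵁ U x) (𝒜.toQCAlg.π ⁻¹ᵁ U x) hpre.ge)).hom.Finite := by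
      refine finite_of_lin hA (hU x) (he x) _ (fun a => ⟨(pullback.snd B.π p).app (U x) a, ?_⟩) (m := n x) ?_
      · rw [Scheme.Hom.app_eq_appLE, Scheme.Hom.app_eq_appLE, ← CommRingCat.comp_apply, Scheme.Hom.appLE_comp_appLE]
        simp only [hγsnd]
      · have hle' : pullback.snd B.π p ⁻¹ᵁ U x ≤ pullback.fst B.π p ⁻¹ᵁ (B.π ⁻¹ᵁ W x) := by
          rw [← Scheme.Hom.comp_preimage, pullback.condition, Scheme.Hom.comp_preimage]
          exact (pullback.snd B.π p).preimage_mono (hUW x)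
        obtain ⟨u, hu⟩ := (hcu x)
        refine ⟨(pullback.fst B.π p).appLE _ _ hle' (gfun B (W x) (b x)) *
          (pullback.snd B.π p).app (U x) (↑u⁻¹ : Γ(X, U x)), ?_⟩
        rw [map_mul, ← CommRingCat.comp_apply, Scheme.Hom.appLE_comp_appLE]
        simp only [hγfst]
        rw [← Scheme.Hom.appLE_map q (hqW (W x)).le (homOfLE (hle x)).op, CommRingCat.comp_apply, hqf]
        change ro (hle x) (cfst (𝒜.toQCAlg.π ≫ p) p j0 w (W x) (b x)) * _ = _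
        rw [hbc x, Scheme.Hom.app_eq_appLE (pullback.snd B.π p), ← CommRingCat.comp_apply,
          Scheme.Hom.appLE_comp_appLE]
        simp only [hγsnd]
        rw [← Scheme.Hom.app_eq_appLE, mul_comm (𝒜.toQCAlg.π.app (U x) (c x)), mul_assoc, ← map_mul, ← hu,
          Units.mul_inv, map_one, mul_one]
    have hle2 : ∀ (O' : (pullback B.π p).Opens) (O : 𝒜.toQCAlg.spec.Opens), O' = pullback.snd B.π p ⁻¹ᵁ U x →
        O = 𝒜.toQCAlg.π ⁻¹ᵁ U x → ∀ h : O ≤ γ ⁻¹ᵁ O', (γ.appLE O' O h).hom.Finite := by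
      intro O' O eO' eO h
      subst eO' eO
      exact hfin
    refine hle2 _ _ ?_ ?_ _
    · rw [Scheme.Opens.ι_image_top]
    · rw [Scheme.Hom.preimage_top, Scheme.Opens.ι_image_top, hpre]
  haveI : IsProper (pullback.fst B.π p) := MorphismProperty.pullback_fst _ _ inferInstance
  haveI hqp : IsProper q := by rw [← hγfst]; infer_instance
  refine ⟨hqp, Set.Subset.antisymm (fun z hz hzε => (Set.eq_empty_iff_forall_notMem.1 hdis) z ⟨hz, hzε⟩) ?_⟩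
  have hclosed : IsClosed (Set.range q.base ∪ Set.range ε.base) := by
    refine q.isClosedMap.isClosed_range.union ?_
    haveI : IsClosedImmersion ε := by
      haveI : IsClosedImmersion (ε ≫ B.π) := by rw [hε]; infer_instance
      exact IsClosedImmersion.of_comp ε B.π
    exact ε.isClosedEmbedding.isClosed_range
  have hall : Set.range q.base ∪ Set.range ε.base = Set.univ := by
    refine Set.eq_univ_of_forall fun z => ?_
    by_contra hz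
    obtain ⟨W, hW, hzW, -⟩ := exists_isAffineOpen_mem_and_subset (Opens.mem_top (B.π.base z))
    obtain ⟨a, ha, hza⟩ := (hW.preimage B.π).exists_basicOpen_le
      (V := ⟨(Set.range q.base ∪ Set.range ε.base)ᶜ, hclosed.isOpen_compl⟩) ⟨z, hz⟩ hzW
    obtain ⟨b, rfl⟩ : ∃ b, gfun B W b = a := ⟨(B.gammaMap.app (op W)).hom a,
      ConcreteCategory.congr_hom (NatTrans.congr_app (RelSpecAlg.gammaIso B).hom_inv_id (op W)) a⟩
    have h1 : IsNilpotent (cfst (𝒜.toQCAlg.π ≫ p) p j0 w W b) := by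
      rw [Scheme.isNilpotent_iff_basicOpen_eq_bot_of_isCompact
        ((𝒜.toQCAlg.π ≫ p).isCompact_preimage hW.isCompact)]
      refine le_bot_iff.1 fun v hv => ?_
      rw [← show q.appLE _ _ (hqW W).le (gfun B W b) = cfst (𝒜.toQCAlg.π ≫ p) p j0 w W b from hqf W b _,
        ← preimage_basicOpen_appLE q (hqW W)] at hv
      exact ha hv (Or.inl ⟨v, rfl⟩)
    have h2 : IsNilpotent (csnd (𝒜.toQCAlg.π ≫ p) p j0 w W b) := by
      rw [Scheme.isNilpotent_iff_basicOpen_eq_bot_of_isCompact hW.isCompact]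
      refine le_bot_iff.1 fun v hv => ?_
      have hv' : v ∈ Y.basicOpen (ε.appLE _ ((𝟙 Y : Y ⟶ Y) ⁻¹ᵁ W) (hεW W).le (gfun B W b)) := by
        rw [hεf W b]; exact hv
      rw [← preimage_basicOpen_appLE ε (hεW W)] at hv'
      exact ha hv' (Or.inr ⟨v, rfl⟩)
    obtain ⟨N₁, hN₁⟩ := h1
    obtain ⟨N₂, hN₂⟩ := h2
    have hb0 : (gfun B W b) ^ (N₁ + N₂) = 0 := by
      change (coneSheaf (𝒜.toQCAlg.π ≫ p) p j0 w).obj.obj (op W) at b
      refine (map_pow (gfun B W) _ _).symm.trans ?_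
      rw [show (show B.presheaf.obj (op W) from b) ^ (N₁ + N₂) = 0 from cone_ext (𝒜.toQCAlg.π ≫ p) p j0 w
        (by
          change cfst (𝒜.toQCAlg.π ≫ p) p j0 w W (b ^ (N₁ + N₂)) = cfst (𝒜.toQCAlg.π ≫ p) p j0 w W 0
          rw [map_pow, map_zero, pow_add, hN₁, zero_mul])
        (by
          change csnd (𝒜.toQCAlg.π ≫ p) p j0 w W (b ^ (N₁ + N₂)) = csnd (𝒜.toQCAlg.π ≫ p) p j0 w W 0
          rw [map_pow, map_zero, pow_add, hN₂, mul_zero]), map_zero]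
    have hbot : B.spec.basicOpen (gfun B W b) = ⊥ :=
      (Scheme.isNilpotent_iff_basicOpen_eq_bot_of_isCompact (hW.preimage B.π).isCompact _).1 ⟨_, hb0⟩
    rw [hbot] at hza
    exact hza
  intro z hz
  rcases (hall.ge (Set.mem_univ z)) with ⟨v, rfl⟩ | h
  · by_cases hv : v ∈ V0
    · exact ⟨⟨v, hv⟩, rfl⟩
    · have hv' : v ∈ Set.range j0.base := by
        by_contra h'
        exact hv (show v ∈ (V0 : Set 𝒜.toQCAlg.spec) from hV0 ▸ h')
      obtain ⟨y, rfl⟩ := hv'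
      refine (hz ⟨p.base y, ?_⟩).elim
      rw [← Scheme.Hom.comp_apply, ← Scheme.Hom.comp_apply, hjq]
  · exact absurd h hz

include hL hA h0 haug hj0 hV0 in
/-- Grauert's criterion, the direction to a contraction. -/
theorem exists_contraction [QuasiCompact p] [IsSeparated p] (hamp : RelAmple.IsRelAmple p L) :
    ∃ (C : Scheme.{u}) (g : C ⟶ Y) (ε : Y ⟶ C) (q : 𝒜.toQCAlg.spec ⟶ C),
      ε ≫ g = 𝟙 Y ∧ q ≫ g = 𝒜.toQCAlg.π ≫ p ∧ j0 ≫ q = p ≫ ε ∧ IsSeparated g ∧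
      IsOpenImmersion (V0.ι ≫ q) ∧ QuasiCompact (V0.ι ≫ q) ∧
      Set.range (V0.ι ≫ q).base ∩ Set.range ε.base = ∅ ∧
      (IsProper p → IsProper q ∧ Set.range (V0.ι ≫ q).base = (Set.range ε.base)ᶜ) := by
  set w := j0_comp p hj0
  let B := coneAlg (𝒜.toQCAlg.π ≫ p) p j0 w
  obtain ⟨q, hq, hqf⟩ := exists_hom_to_spec B (𝒜.toQCAlg.π ≫ p)
    (pullback.fst (restrS (𝒜.toQCAlg.π ≫ p) p j0 w) (strS p)).hom (by
      refine NatTrans.ext (funext fun ⟨W⟩ => CommRingCat.hom_ext (RingHom.ext fun a => ?_))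
      exact cfst_str _ p j0 w W a)
  obtain ⟨ε, hε, hεf⟩ := exists_hom_to_spec B (𝟙 Y)
    (pullback.snd (restrS (𝒜.toQCAlg.π ≫ p) p j0 w) (strS p)).hom (by
      refine NatTrans.ext (funext fun ⟨W⟩ => CommRingCat.hom_ext (RingHom.ext fun a => ?_))
      exact csnd_str _ p j0 w W a)
  obtain ⟨h1, h2, h3, h4, h5⟩ := contraction_props p hL hA h0 haug hj0 V0 hV0 hamp q hq (fun W b e => hqf W b e)
    ε hε (fun W b e => hεf W b e)
  exact ⟨B.spec, B.π, ε, q, hε, hq, h1, inferInstance, h2, h3, h4, h5⟩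

end Groth.L18.Contract
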