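import Mathlib.RingTheory.Polynomial.Basic
import Mathlib.Algebra.Polynomial.RingDivision
import Mathlib.Algebra.Polynomial.Div
import Mathlib.RingTheory.Ideal.Quotient.Operations
import Mathlib.RingTheory.GradedAlgebra.Homogeneous.Ideal

/-!
# Truncated expansions
-/

set_option autoImplicit false

open Polynomial

namespace Groth.L18.Contract

variable {A : Type*} [CommRing A] (z : Ideal A) [z.IsPrime]

theorem coeff_mem_of_expansion {g h r : A[X]} {m M N : ℕ} (hh : h.coeff 0 ∉ z) (hg : ∀ k, g.coeff k ∈ z)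
    (hd : X ^ N ∣ h ^ M * (h ^ m * r - g)) : ∀ k < N, r.coeff k ∈ z := by
  intro k hk
  let φ := mapRingHom (Ideal.Quotient.mk z)
  have hg0 : φ g = 0 := Polynomial.ext fun k => by
    simp only [φ, coe_mapRingHom, coeff_map, coeff_zero]
    exact Ideal.Quotient.eq_zero_iff_mem.2 (hg k)
  have h1 := map_dvd φ hd
  rw [map_pow, map_mul, map_sub, map_mul, map_pow, map_pow, hg0, sub_zero, ← mul_assoc, ← pow_add,
    show φ X = X by simp [φ]] at h1
  have hnd : ¬ (X : (A ⧸ z)[X]) ∣ φ h ^ (M + m) := by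
    intro hx
    have := prime_X.dvd_of_dvd_pow hx
    rw [X_dvd_iff] at this
    simp only [φ, coe_mapRingHom, coeff_map] at this
    exact hh (Ideal.Quotient.eq_zero_iff_mem.1 this)
  have h2 := (prime_X (R := A ⧸ z)).pow_dvd_of_dvd_mul_left N hnd h1
  have h3 := X_pow_dvd_iff.1 h2 k hk
  simp only [φ, coe_mapRingHom, coeff_map] at h3
  exact Ideal.Quotient.eq_zero_iff_mem.1 h3

theorem exists_coeff_notMem_of_expansion {g h r : A[X]} {m M N : ℕ} (hh : h.coeff 0 ∉ z)
    (hg : ∃ k, g.coeff k ∉ z) (hN : g.natDegree < N) (hd : X ^ N ∣ h ^ M * (h ^ m * r - g)) :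
    ∃ k < N, r.coeff k ∉ z := by
  by_contra hne
  push Not at hne
  let φ := mapRingHom (Ideal.Quotient.mk z)
  have hr : X ^ N ∣ φ r := X_pow_dvd_iff.2 fun k hk => by
    simp only [φ, coe_mapRingHom, coeff_map]
    exact Ideal.Quotient.eq_zero_iff_mem.2 (hne k hk)
  have h1 := map_dvd φ hd
  rw [map_pow, map_mul, map_sub, map_mul, map_pow, map_pow, show φ X = X by simp [φ], mul_sub] at h1
  have h2 : X ^ N ∣ φ h ^ M * (φ h ^ m * φ r) := (hr.mul_left _).mul_left _
  have h3 : X ^ N ∣ φ h ^ M * φ g := by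
    have := dvd_sub h2 h1
    rwa [sub_sub_cancel] at this
  have hnd : ¬ (X : (A ⧸ z)[X]) ∣ φ h ^ M := by
    intro hx
    have := prime_X.dvd_of_dvd_pow hx
    rw [X_dvd_iff] at this
    simp only [φ, coe_mapRingHom, coeff_map] at this
    exact hh (Ideal.Quotient.eq_zero_iff_mem.1 this)
  have h4 := X_pow_dvd_iff.1 ((prime_X (R := A ⧸ z)).pow_dvd_of_dvd_mul_left N hnd h3)
  obtain ⟨k, hk⟩ := hg
  refine hk ?_
  by_cases hkN : k < N
  · have h5 := h4 k hkN
    simp only [φ, coe_mapRingHom, coeff_map] at h5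
    exact Ideal.Quotient.eq_zero_iff_mem.1 h5
  · rw [coeff_eq_zero_of_natDegree_lt (lt_of_lt_of_le hN (not_lt.1 hkN))]
    exact z.zero_mem

section graded

variable {R : Type*} [CommRing R] {σ : Type*} [SetLike σ R] [AddSubgroupClass σ R] (𝒜 : ℕ → σ) [GradedRing 𝒜]

/-- The ideal generated by homogeneous elements of degree at least `k`. -/
def degGE (k : ℕ) : Ideal R := Ideal.span {x | ∃ i, k ≤ i ∧ x ∈ 𝒜 i}

theorem irrelevant_pow_le_degGE (k : ℕ) : (HomogeneousIdeal.irrelevant 𝒜).toIdeal ^ k ≤ degGE 𝒜 k := by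
  induction k with
  | zero =>
    intro x _
    classical
    rw [← DirectSum.sum_support_decompose 𝒜 x]
    exact Ideal.sum_mem _ fun i _ => Ideal.subset_span ⟨i, Nat.zero_le _, SetLike.coe_mem _⟩
  | succ k ih =>
    have h1 : (HomogeneousIdeal.irrelevant 𝒜).toIdeal ≤ degGE 𝒜 1 := by
      classical
      intro x hx
      rw [← DirectSum.sum_support_decompose 𝒜 x]
      refine Ideal.sum_mem _ fun i _ => ?_
      rcases Nat.eq_zero_or_pos i with rfl | hi
      · have := (HomogeneousIdeal.mem_irrelevant_iff 𝒜 x).1 hx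
        rw [GradedRing.proj_apply] at this
        rw [this]
        exact Ideal.zero_mem _
      · exact Ideal.subset_span ⟨i, hi, SetLike.coe_mem _⟩
    rw [pow_succ]
    refine (Ideal.mul_mono ih h1).trans ?_
    rw [degGE, degGE, Ideal.span_mul_span', degGE]
    refine Ideal.span_le.2 ?_
    rintro _ ⟨a, ⟨i, hi, ha⟩, b, ⟨j, hj, hb⟩, rfl⟩
    exact Ideal.subset_span ⟨i + j, by omega, SetLike.mul_mem_graded ha hb⟩

theorem decompose_degGE {k n : ℕ} (hn : n < k) {x : R} (hx : x ∈ degGE 𝒜 k) :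
    (DirectSum.decompose 𝒜 x n : R) = 0 := by
  classical
  induction hx using Submodule.span_induction generalizing n with
  | mem x h =>
    obtain ⟨i, hi, hx⟩ := h
    exact DirectSum.decompose_of_mem_ne 𝒜 hx (by omega)
  | zero => simp
  | add a b _ _ ha hb => rw [DirectSum.decompose_add, DFinsupp.add_apply, AddMemClass.coe_add, ha hn, hb hn, add_zero]
  | smul r a _ ha =>
    rw [smul_eq_mul]
    conv_lhs => rw [← DirectSum.sum_support_decompose 𝒜 r, Finset.sum_mul]
    rw [DirectSum.decompose_sum, DFinsupp.finsetSum_apply, AddSubmonoidClass.coe_finsetSum]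
    refine Finset.sum_eq_zero fun i _ => ?_
    by_cases hin : i ≤ n
    · rw [DirectSum.coe_decompose_mul_of_left_mem_of_le 𝒜 (SetLike.coe_mem _) hin,
        ha (lt_of_le_of_lt (Nat.sub_le n i) hn), mul_zero]
    · exact DirectSum.coe_decompose_mul_of_left_mem_of_not_le 𝒜 (SetLike.coe_mem _) hin

theorem decompose_irrelevant_pow {k n : ℕ} (hn : n < k) {x : R}
    (hx : x ∈ (HomogeneousIdeal.irrelevant 𝒜).toIdeal ^ k) : (DirectSum.decompose 𝒜 x n : R) = 0 :=
  decompose_degGE 𝒜 hn (irrelevant_pow_le_degGE 𝒜 k hx)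

end graded

end Groth.L18.Contract
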