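import Groth.Agent.L18.Contract.PowFun
import Groth.Agent.L18.Contract.Taylor
import Groth.Agent.L18.PBundle.DegOne

/-!
# Homogeneous components of a function near the zero section
-/

set_option autoImplicit false
set_option linter.style.haveILetI false
set_option backward.isDefEq.respectTransparency false

noncomputable section

universe u

open CategoryTheory CategoryTheory.Limits AlgebraicGeometry TopologicalSpace Opposite
open Groth.L18
open Groth.L18.Frame (rs ro rs_rs rs_self rs_smul ro_ro ro_self IsFrame)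
open Groth.L18.NormDesc (pf pf_rs pf_smul isFrame_pf)

namespace Groth.L18.Contract

variable {X : Scheme.{u}} {L : X.Modules} {𝒜 : RelProj.QCGrAlg X} {jL : L ⟶ 𝒜.toModule}

/-- `A[T]` to the algebra over an open, `T` going to the frame. -/
def polyHom (jL : L ⟶ 𝒜.toModule) {U : X.Opens} (e : Γ(L, U)) :
    Polynomial Γ(X, U) →+* 𝒜.presheaf.obj (op U) :=
  Polynomial.eval₂RingHom (𝒜.str.app (op U)).hom (SymInv.gen jL e)

variable [Coh.IsQCoh L] (hA : RelProj.IsGrSymAlg L 𝒜 jL) (h0 : RelCone.StrZeroBij 𝒜)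
  {aug : 𝒜.toQCAlg ⟶ RelSpec.QCAlg.unit X} (haug : RelCone.IsAugmentation 𝒜 aug)
  {j0 : X ⟶ 𝒜.toQCAlg.spec} (hj0 : RelCone.IsVertex 𝒜 aug j0)
  {V0 : 𝒜.toQCAlg.spec.Opens} (hV0 : (V0 : Set 𝒜.toQCAlg.spec) = (Set.range j0.base)ᶜ)

include hA in
theorem decompose_polyHom {U : X.Opens} (hU : IsAffineOpen U) {e : Γ(L, U)} (he : IsFrame L U e)
    (p : Polynomial Γ(X, U)) (n : ℕ) :
    (DirectSum.decompose (𝒜.deg U hU) (polyHom jL e p) n : 𝒜.presheaf.obj (op U)) =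
      (𝒜.str.app (op U)).hom (p.coeff n) * SymInv.gen jL e ^ n := by
  classical
  induction p using Polynomial.induction_on' with
  | add p q hp hq =>
    rw [map_add, DirectSum.decompose_add, DFinsupp.add_apply, AddMemClass.coe_add, hp, hq, Polynomial.coeff_add,
      map_add, add_mul]
  | monomial k c =>
    rw [polyHom, Polynomial.coe_eval₂RingHom, Polynomial.eval₂_monomial, Polynomial.coeff_monomial]
    have hm := (SymInv.mem_deg_iff hA hU he k _).2 ⟨c, rfl⟩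
    by_cases h : k = n
    · subst h
      rw [DirectSum.decompose_of_mem_same _ hm, if_pos rfl]
    · rw [DirectSum.decompose_of_mem_ne _ hm h, if_neg h, map_zero, zero_mul]

include hA in
theorem polyHom_bijective {U : X.Opens} (hU : IsAffineOpen U) {e : Γ(L, U)} (he : IsFrame L U e) :
    Function.Bijective (polyHom jL e) := by
  classical
  constructor
  · rw [injective_iff_map_eq_zero]
    intro p hp
    refine Polynomial.ext fun n => ?_
    have h := decompose_polyHom hA hU he p n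
    rw [hp, DirectSum.decompose_zero, DFinsupp.zero_apply, ZeroMemClass.coe_zero] at h
    rw [Polynomial.coeff_zero]
    exact SymInv.coeff_eq_zero hA hU he n h.symm
  · intro y
    have h : ∀ n, ∃ c, (DirectSum.decompose (𝒜.deg U hU) y n : 𝒜.presheaf.obj (op U)) =
        (𝒜.str.app (op U)).hom c * SymInv.gen jL e ^ n := fun n =>
      (SymInv.mem_deg_iff hA hU he n _).1 (SetLike.coe_mem _)
    choose c hc using h
    refine ⟨∑ n ∈ (DirectSum.decompose (𝒜.deg U hU) y).support, Polynomial.monomial n (c n), ?_⟩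
    conv_rhs => rw [← DirectSum.sum_support_decompose (𝒜.deg U hU) y]
    rw [map_sum]
    refine Finset.sum_congr rfl fun n _ => ?_
    rw [hc, polyHom, Polynomial.coe_eval₂RingHom, Polynomial.eval₂_monomial]

/-- `A(U)` modulo the `N`th power of the irrelevant ideal. -/
abbrev jet (𝒜 : RelProj.QCGrAlg X) (U : X.Opens) (hU : IsAffineOpen U) (N : ℕ) : CommRingCat.{u} :=
  CommRingCat.of (𝒜.presheaf.obj (op U) ⧸ (HomogeneousIdeal.irrelevant (𝒜.deg U hU)).toIdeal ^ N)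

/-- The thickened zero section over an affine open. -/
def jetι (𝒜 : RelProj.QCGrAlg X) (U : X.Opens) (hU : IsAffineOpen U) (N : ℕ) :
    Spec (jet 𝒜 U hU N) ⟶ 𝒜.toQCAlg.spec :=
  Spec.map (CommRingCat.ofHom (Ideal.Quotient.mk _)) ≫ 𝒜.toQCAlg.ι U hU

include h0 haug hj0 in
theorem jetι_le {U : X.Opens} (hU : IsAffineOpen U) (N : ℕ) {O : 𝒜.toQCAlg.spec.Opens} (hO : U ≤ j0 ⁻¹ᵁ O) :
    (⊤ : (Spec (jet 𝒜 U hU N)).Opens) ≤ jetι 𝒜 U hU N ⁻¹ᵁ O := by
  intro p _
  show (jetι 𝒜 U hU N).base p ∈ O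
  let w := (Spec.map (CommRingCat.ofHom (Ideal.Quotient.mk
    ((HomogeneousIdeal.irrelevant (𝒜.deg U hU)).toIdeal ^ N)))).base p
  have hw : w ∉ RelCone.vertexCompl (𝒜.deg U hU) := by
    intro hw
    refine hw fun r hr => ?_
    show Ideal.Quotient.mk _ r ∈ p.asIdeal
    refine p.isPrime.mem_of_pow_mem N ?_
    rw [← map_pow, Ideal.Quotient.eq_zero_iff_mem.2 (Ideal.pow_mem_pow hr N)]
    exact p.asIdeal.zero_mem
  obtain ⟨y, hy⟩ := (Cone.preimage_range_vertex h0 haug hj0 U hU w).2 hw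
  show (𝒜.toQCAlg.ι U hU).base w ∈ O
  rw [← hy]
  refine hO ?_
  have h1 := RSGlue.π_mem 𝒜.toQCAlg U hU w
  rw [← hy, ← Scheme.Hom.comp_apply, hj0.comp_π] at h1
  exact h1

/-- The expansion of a function defined near the zero section. -/
def theta {U : X.Opens} (hU : IsAffineOpen U) (N : ℕ) {O : 𝒜.toQCAlg.spec.Opens}
    (hO : (⊤ : (Spec (jet 𝒜 U hU N)).Opens) ≤ jetι 𝒜 U hU N ⁻¹ᵁ O) : Γ(𝒜.toQCAlg.spec, O) →+* jet 𝒜 U hU N :=
  ((jetι 𝒜 U hU N).appLE O ⊤ hO ≫ (Scheme.ΓSpecIso _).hom).hom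

theorem irrelevant_le_comap {U V : X.Opens} (hU : IsAffineOpen U) (hV : IsAffineOpen V) (h : V ≤ U) :
    (HomogeneousIdeal.irrelevant (𝒜.deg U hU)).toIdeal ≤
      (HomogeneousIdeal.irrelevant (𝒜.deg V hV)).toIdeal.comap (𝒜.presheaf.map (homOfLE h).op).hom := by
  classical
  intro x hx
  show _ ∈ HomogeneousIdeal.irrelevant (𝒜.deg V hV)
  rw [HomogeneousIdeal.mem_irrelevant_iff, GradedRing.proj_apply]
  have h1 := (HomogeneousIdeal.mem_irrelevant_iff (𝒜.deg U hU) x).1 hx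
  rw [GradedRing.proj_apply] at h1
  have h2 := (𝒜.res hU hV h).map_directSumDecompose (i := 0) (x := x)
  rw [h1, map_zero] at h2
  exact h2.symm

theorem jet_map_le {U V : X.Opens} (hU : IsAffineOpen U) (hV : IsAffineOpen V) (h : V ≤ U) {N N' : ℕ} (hN : N' ≤ N) :
    (HomogeneousIdeal.irrelevant (𝒜.deg U hU)).toIdeal ^ N ≤
      ((HomogeneousIdeal.irrelevant (𝒜.deg V hV)).toIdeal ^ N').comap (𝒜.presheaf.map (homOfLE h).op).hom := by
  refine (Ideal.pow_le_pow_right hN).trans ((Ideal.pow_right_mono (irrelevant_le_comap hU hV h) N').trans ?_)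
  exact Ideal.le_comap_pow _ N'

theorem theta_res {U V : X.Opens} (hU : IsAffineOpen U) (hV : IsAffineOpen V) (h : V ≤ U) {N N' : ℕ} (hN : N' ≤ N)
    {O : 𝒜.toQCAlg.spec.Opens} (hOU : (⊤ : (Spec (jet 𝒜 U hU N)).Opens) ≤ jetι 𝒜 U hU N ⁻¹ᵁ O)
    (hOV : (⊤ : (Spec (jet 𝒜 V hV N')).Opens) ≤ jetι 𝒜 V hV N' ⁻¹ᵁ O) (f : Γ(𝒜.toQCAlg.spec, O)) :
    Ideal.quotientMap _ (𝒜.presheaf.map (homOfLE h).op).hom (jet_map_le hU hV h hN) (theta hU N hOU f) =
      theta hV N' hOV f := by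
  let m : jet 𝒜 U hU N ⟶ jet 𝒜 V hV N' :=
    CommRingCat.ofHom (Ideal.quotientMap _ (𝒜.presheaf.map (homOfLE h).op).hom (jet_map_le hU hV h hN))
  have hm : Spec.map m ≫ jetι 𝒜 U hU N = jetι 𝒜 V hV N' := by
    rw [jetι, jetι, ← RSGlue.ι_res 𝒜.toQCAlg hU hV h, ← Category.assoc, ← Category.assoc, ← Spec.map_comp,
      ← Spec.map_comp]
    congr 2
  show ((jetι 𝒜 U hU N).appLE O ⊤ hOU ≫ (Scheme.ΓSpecIso _).hom ≫ m).hom f =
    ((jetι 𝒜 V hV N').appLE O ⊤ hOV ≫ (Scheme.ΓSpecIso _).hom).hom f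
  rw [← Scheme.ΓSpecIso_naturality]
  simp only [← hm]
  rw [← Scheme.Hom.appLE_comp_appLE (Spec.map m) (jetι 𝒜 U hU N) O ⊤ ⊤ hOU le_top, Category.assoc]
  simp [Scheme.Hom.appLE]

/-- The component of degree `n` of a function defined near the zero section. -/
def comp {U : X.Opens} (hU : IsAffineOpen U) (n : ℕ) {O : 𝒜.toQCAlg.spec.Opens}
    (hO : (⊤ : (Spec (jet 𝒜 U hU (n + 1))).Opens) ≤ jetι 𝒜 U hU (n + 1) ⁻¹ᵁ O) (f : Γ(𝒜.toQCAlg.spec, O)) :
    𝒜.presheaf.obj (op U) :=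
  PBundle.projD 𝒜 n U hU (Ideal.Quotient.mk_surjective (theta hU (n + 1) hO f)).choose

theorem comp_eq {U : X.Opens} (hU : IsAffineOpen U) (n : ℕ) {O : 𝒜.toQCAlg.spec.Opens}
    (hO : (⊤ : (Spec (jet 𝒜 U hU (n + 1))).Opens) ≤ jetι 𝒜 U hU (n + 1) ⁻¹ᵁ O) (f : Γ(𝒜.toQCAlg.spec, O))
    (y : 𝒜.presheaf.obj (op U)) (hy : Ideal.Quotient.mk _ y = theta hU (n + 1) hO f) :
    comp hU n hO f = PBundle.projD 𝒜 n U hU y := by
  classical
  have h := Ideal.Quotient.eq.1 ((Ideal.Quotient.mk_surjective (theta hU (n + 1) hO f)).choose_spec.trans hy.symm)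
  rw [comp, ← sub_eq_zero, ← map_sub]
  show GradedRing.proj _ _ _ = 0
  rw [GradedRing.proj_apply]
  exact decompose_irrelevant_pow _ (Nat.lt_succ_self n) h

include h0 haug hj0 in
/-- The components, as sections of powers. -/
theorem exists_comp_sec (hL : PicF.IsInvertible L) (hA : RelProj.IsGrSymAlg L 𝒜 jL) {Ω : X.Opens}
    {O : 𝒜.toQCAlg.spec.Opens} (hO : Ω ≤ j0 ⁻¹ᵁ O) (f : Γ(𝒜.toQCAlg.spec, O)) (n : ℕ) :
    ∃ σ : Γ(CohB1.tensorPow L n, Ω), ∀ (U : X.Opens) (hU : IsAffineOpen U) (h : U ≤ Ω) (e : Γ(L, U)),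
      IsFrame L U e → ∀ (N : ℕ) (_ : n < N) (r : Polynomial Γ(X, U)),
        Ideal.Quotient.mk _ (polyHom jL e r) = theta hU N (jetι_le h0 haug hj0 hU N (h.trans hO)) f →
          r.coeff n • pf e n = rs (CohB1.tensorPow L n) h σ := by
  classical
  obtain ⟨σ, hσ⟩ := exists_sec_of_family (jL := jL) hL hA
    (fun U h => comp U.2 n (jetι_le h0 haug hj0 U.2 (n + 1) (h.trans hO)) f)
    (fun U h => SetLike.coe_mem _) fun U U' h h' => by
      obtain ⟨y, hy⟩ := Ideal.Quotient.mk_surjective (theta U.2 (n + 1) (jetι_le h0 haug hj0 U.2 (n + 1) (h.trans hO)) f)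
      rw [comp_eq U.2 n _ f y hy, comp_eq U'.2 n _ f ((𝒜.presheaf.map (homOfLE h').op).hom y) ?_,
        PBundle.projD_res]
      rw [← theta_res U.2 U'.2 h' le_rfl (jetι_le h0 haug hj0 U.2 (n + 1) (h.trans hO)), ← hy]
      rfl
  refine ⟨σ, fun U hU h e he N hN r hr => hσ ⟨U, hU⟩ h e he _ ?_⟩
  have h1 := theta_res (V := U) hU hU le_rfl (N := N) (N' := n + 1) hN (jetι_le h0 haug hj0 hU N (h.trans hO))
    (jetι_le h0 haug hj0 hU (n + 1) (h.trans hO)) f
  rw [← hr, Ideal.quotientMap_mk] at h1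
  rw [comp_eq hU n _ f (polyHom jL e r) ?_]
  · show GradedRing.proj _ _ _ = _
    rw [GradedRing.proj_apply]
    exact decompose_polyHom hA hU he r n
  · refine Eq.trans ?_ h1
    congr 1
    exact (ConcreteCategory.congr_hom (𝒜.presheaf.map_id (op U)) _).symm

end Groth.L18.Contract
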