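import Groth.Agent.L18.Contract.Contraction
import Groth.Agent.L18.FactorDesc
import Groth.Agent.L18.Contract.Expand
import Groth.Agent.L18.NormalExtend
import Mathlib.AlgebraicGeometry.FunctionField
import Mathlib.RingTheory.Polynomial.Basic

/-!
# Factoring a contraction through the affine cone
-/

set_option autoImplicit false
set_option linter.style.haveILetI false
set_option backward.isDefEq.respectTransparency false

noncomputable section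

universe u

open CategoryTheory CategoryTheory.Limits AlgebraicGeometry TopologicalSpace Opposite
open Groth.L18
open Groth.L18.Frame (rs ro rs_rs rs_self rs_smul ro_ro ro_self IsFrame)

namespace Groth.L18.Contract

/-- A scheme with bijective comorphism onto a proper source is the image of it. -/
theorem surjective_of_isIso_c {X Y : Scheme.{u}} (p : X ⟶ Y) [UniversallyClosed p] (hθ : IsIso p.c) : Surjective p := by
  constructor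
  intro y
  by_contra hy
  let W : Y.Opens := ⟨(Set.range p.base)ᶜ, p.isClosedMap.isClosed_range.isOpen_compl⟩
  have hpre : p ⁻¹ᵁ W = ⊥ := le_bot_iff.1 fun x hx => hx ⟨x, rfl⟩
  haveI : Subsingleton Γ(X, p ⁻¹ᵁ W) := by rw [hpre]; infer_instance
  haveI : IsIso (p.app W) := NatIso.isIso_app_of_isIso p.c _
  haveI : Subsingleton Γ(Y, W) := ((ConcreteCategory.isIso_iff_bijective (p.app W)).1 inferInstance).1.subsingleton
  have h01 := congrArg (Y.presheaf.germ W y hy).hom (Subsingleton.elim (1 : Γ(Y, W)) 0)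
  rw [map_one, map_zero] at h01
  exact one_ne_zero h01

variable {X Y : Scheme.{u}} (p : X ⟶ Y) {L : X.Modules} [Coh.IsQCoh L] (hL : PicF.IsInvertible L)
  {𝒜 : RelProj.QCGrAlg X} {jL : L ⟶ 𝒜.toModule}
  (hA : RelProj.IsGrSymAlg L 𝒜 jL) (h0 : RelCone.StrZeroBij 𝒜)
  {aug : 𝒜.toQCAlg ⟶ RelSpec.QCAlg.unit X} (haug : RelCone.IsAugmentation 𝒜 aug)
  {j0 : X ⟶ 𝒜.toQCAlg.spec} (hj0 : RelCone.IsVertex 𝒜 aug j0)
  (V0 : 𝒜.toQCAlg.spec.Opens) (hV0 : (V0 : Set 𝒜.toQCAlg.spec) = (Set.range j0.base)ᶜ)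

include hj0 in
theorem exists_iso_cone [QuasiCompact p] [IsSeparated p] (hθ : IsIso p.c)
    (q' : 𝒜.toQCAlg.spec ⟶ (RelSpec.QCAlg.directImage (𝒜.toQCAlg.π ≫ p)).spec)
    (hq'π : q' ≫ (RelSpec.QCAlg.directImage (𝒜.toQCAlg.π ≫ p)).π = 𝒜.toQCAlg.π ≫ p)
    (hq' : AffAlg.algHom (RelSpec.QCAlg.directImage (𝒜.toQCAlg.π ≫ p)).π (𝒜.toQCAlg.π ≫ p) q' hq'π =
      (RelSpec.QCAlg.directImage (𝒜.toQCAlg.π ≫ p)).gammaMap)
    (qB : 𝒜.toQCAlg.spec ⟶ (coneAlg (𝒜.toQCAlg.π ≫ p) p j0 (j0_comp p hj0)).spec)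
    (hqB : qB ≫ (coneAlg (𝒜.toQCAlg.π ≫ p) p j0 (j0_comp p hj0)).π = 𝒜.toQCAlg.π ≫ p)
    (hqf : ∀ (W : Y.Opens) b e, qB.appLE ((coneAlg (𝒜.toQCAlg.π ≫ p) p j0 (j0_comp p hj0)).π ⁻¹ᵁ W)
      ((𝒜.toQCAlg.π ≫ p) ⁻¹ᵁ W) e (gfun _ W b) = cfst (𝒜.toQCAlg.π ≫ p) p j0 (j0_comp p hj0) W b) :
    ∃ v : (coneAlg (𝒜.toQCAlg.π ≫ p) p j0 (j0_comp p hj0)).spec ≅ (RelSpec.QCAlg.directImage (𝒜.toQCAlg.π ≫ p)).spec,
      v.hom ≫ (RelSpec.QCAlg.directImage (𝒜.toQCAlg.π ≫ p)).π = (coneAlg (𝒜.toQCAlg.π ≫ p) p j0 (j0_comp p hj0)).π ∧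
      qB ≫ v.hom = q' := by
  have w := j0_comp p hj0
  let B := coneAlg (𝒜.toQCAlg.π ≫ p) p j0 w
  let D := RelSpec.QCAlg.directImage (𝒜.toQCAlg.π ≫ p)
  haveI : IsIso (strS p) := by
    haveI : IsIso p.c := hθ
    haveI : IsIso ((sheafToPresheaf (Opens.grothendieckTopology Y) CommRingCat.{u}).map (strS p)) := hθ
    exact (fullyFaithfulSheafToPresheaf (Opens.grothendieckTopology Y) CommRingCat.{u}).isIso_of_isIso_map (strS p)
  let fst := pullback.fst (restrS (𝒜.toQCAlg.π ≫ p) p j0 w) (strS p)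
  haveI : IsIso fst := inferInstance
  haveI : IsIso fst.hom := inferInstanceAs (IsIso ((sheafToPresheaf _ _).map fst))
  have hfi : ∀ (W : Y.Opens) (x : D.presheaf.obj (op W)),
      cfst (𝒜.toQCAlg.π ≫ p) p j0 w W (((inv fst.hom).app (op W)).hom x) = x := fun W x =>
    ConcreteCategory.congr_hom (NatTrans.congr_app (IsIso.inv_hom_id fst.hom) (op W)) x
  obtain ⟨v, hvπ, hv⟩ := exists_hom_to_spec D B.π (inv fst.hom ≫ (RelSpecAlg.gammaIso B).inv) (by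
    have h1 : B.str ≫ (RelSpecAlg.gammaIso B).inv = B.π.c := (Iso.comp_inv_eq _).mpr B.π_c_gammaMap.symm
    have h2 : B.str ≫ fst.hom = D.str := by
      refine NatTrans.ext (funext fun ⟨W⟩ => CommRingCat.hom_ext (RingHom.ext fun a => ?_))
      exact cfst_str _ p j0 w W a
    rw [← h1, ← h2, Category.assoc, IsIso.hom_inv_id_assoc])
  obtain ⟨v', hv'π, hv'⟩ := exists_hom_to_spec B D.π (fst.hom ≫ (RelSpecAlg.gammaIso D).inv) (by
    have h1 : D.str ≫ (RelSpecAlg.gammaIso D).inv = D.π.c := (Iso.comp_inv_eq _).mpr D.π_c_gammaMap.symm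
    have h2 : B.str ≫ fst.hom = D.str := by
      refine NatTrans.ext (funext fun ⟨W⟩ => CommRingCat.hom_ext (RingHom.ext fun a => ?_))
      exact cfst_str _ p j0 w W a
    rw [← h1, ← h2, Category.assoc])
  have hv1 : ∀ (W : Y.Opens) (x : D.presheaf.obj (op W)) e,
      v.appLE (D.π ⁻¹ᵁ W) (B.π ⁻¹ᵁ W) e (gfun D W x) = gfun B W (((inv fst.hom).app (op W)).hom x) :=
    fun W x e => hv W x e
  have hv'1 : ∀ (W : Y.Opens) (b : B.presheaf.obj (op W)) e,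
      v'.appLE (B.π ⁻¹ᵁ W) (D.π ⁻¹ᵁ W) e (gfun B W b) = gfun D W (cfst (𝒜.toQCAlg.π ≫ p) p j0 w W b) :=
    fun W b e => hv' W b e
  have hBD : ∀ W : Y.Opens, B.π ⁻¹ᵁ W = v ⁻¹ᵁ (D.π ⁻¹ᵁ W) := fun W => by rw [← Scheme.Hom.comp_preimage, hvπ]
  have hDB : ∀ W : Y.Opens, D.π ⁻¹ᵁ W = v' ⁻¹ᵁ (B.π ⁻¹ᵁ W) := fun W => by rw [← Scheme.Hom.comp_preimage, hv'π]
  have hid1 : v ≫ v' = 𝟙 B.spec := by
    refine hom_to_spec_ext B B.π _ _ (by rw [Category.assoc, hv'π, hvπ]) (Category.id_comp _) fun W b e e' => ?_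
    rw [← Scheme.Hom.appLE_comp_appLE v v' (B.π ⁻¹ᵁ W) (D.π ⁻¹ᵁ W) (B.π ⁻¹ᵁ W) (hDB W).le (hBD W).le,
      CommRingCat.comp_apply, hv'1, hv1, Scheme.Hom.appLE, Scheme.Hom.id_app, Category.id_comp]
    have h3 : ((inv fst.hom).app (op W)).hom (cfst (𝒜.toQCAlg.π ≫ p) p j0 w W b) = b :=
      ConcreteCategory.congr_hom (NatTrans.congr_app (IsIso.hom_inv_id fst.hom) (op W)) b
    rw [h3]
    exact (ro_self _ _).symm
  have hid2 : v' ≫ v = 𝟙 D.spec := by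
    refine hom_to_spec_ext D D.π _ _ (by rw [Category.assoc, hvπ, hv'π]) (Category.id_comp _) fun W x e e' => ?_
    rw [← Scheme.Hom.appLE_comp_appLE v' v (D.π ⁻¹ᵁ W) (B.π ⁻¹ᵁ W) (D.π ⁻¹ᵁ W) (hBD W).le (hDB W).le,
      CommRingCat.comp_apply, hv1, hv'1, hfi, Scheme.Hom.appLE, Scheme.Hom.id_app, Category.id_comp]
    exact (ro_self _ _).symm
  refine ⟨⟨v, v', hid1, hid2⟩, hvπ, hom_to_spec_ext D (𝒜.toQCAlg.π ≫ p) _ _ (by rw [Category.assoc, hvπ, hqB])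
    hq'π fun W x e e' => ?_⟩
  have hVB : (𝒜.toQCAlg.π ≫ p) ⁻¹ᵁ W ≤ qB ⁻¹ᵁ (B.π ⁻¹ᵁ W) := by rw [← Scheme.Hom.comp_preimage, hqB]
  rw [← Scheme.Hom.appLE_comp_appLE qB v (D.π ⁻¹ᵁ W) (B.π ⁻¹ᵁ W) ((𝒜.toQCAlg.π ≫ p) ⁻¹ᵁ W) (hBD W).le hVB,
    CommRingCat.comp_apply, hv1, hqf, hfi, ← algHom_app_eq D.π (𝒜.toQCAlg.π ≫ p) q' hq'π W e', hq']
  exact (ConcreteCategory.congr_hom (NatTrans.congr_app (RelSpecAlg.gammaIso D).inv_hom_id (op W)) x).symm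

include hL hA h0 haug hj0 hV0 in
/-- The morphism to the spectrum of the direct image algebra, when the functions on the base are those of the source. -/
theorem directImage_props [IsProper p] (hθ : IsIso p.c) (hamp : RelAmple.IsRelAmple p L)
    (q' : 𝒜.toQCAlg.spec ⟶ (RelSpec.QCAlg.directImage (𝒜.toQCAlg.π ≫ p)).spec)
    (hq'π : q' ≫ (RelSpec.QCAlg.directImage (𝒜.toQCAlg.π ≫ p)).π = 𝒜.toQCAlg.π ≫ p)
    (hq' : AffAlg.algHom (RelSpec.QCAlg.directImage (𝒜.toQCAlg.π ≫ p)).π (𝒜.toQCAlg.π ≫ p) q' hq'π =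
      (RelSpec.QCAlg.directImage (𝒜.toQCAlg.π ≫ p)).gammaMap) :
    ∃ ε' : Y ⟶ (RelSpec.QCAlg.directImage (𝒜.toQCAlg.π ≫ p)).spec,
      ε' ≫ (RelSpec.QCAlg.directImage (𝒜.toQCAlg.π ≫ p)).π = 𝟙 Y ∧ j0 ≫ q' = p ≫ ε' ∧ IsProper q' ∧
      IsOpenImmersion (V0.ι ≫ q') ∧ Set.range (V0.ι ≫ q').base = (Set.range ε'.base)ᶜ ∧
      q'.base '' Set.range j0.base = Set.range ε'.base ∧ Surjective q' ∧ (∀ O, Function.Bijective (q'.app O)) := by
  have w := j0_comp p hj0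
  let B := coneAlg (𝒜.toQCAlg.π ≫ p) p j0 w
  obtain ⟨q, hq, hqf⟩ := exists_hom_to_spec B (𝒜.toQCAlg.π ≫ p)
    (pullback.fst (restrS (𝒜.toQCAlg.π ≫ p) p j0 w) (strS p)).hom (by
      refine NatTrans.ext (funext fun ⟨W⟩ => CommRingCat.hom_ext (RingHom.ext fun a => ?_))
      exact cfst_str _ p j0 w W a)
  obtain ⟨ε, hε, hεf⟩ := exists_hom_to_spec B (𝟙 Y)
    (pullback.snd (restrS (𝒜.toQCAlg.π ≫ p) p j0 w) (strS p)).hom (by
      refine NatTrans.ext (funext fun ⟨W⟩ => CommRingCat.hom_ext (RingHom.ext fun a => ?_))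
      exact csnd_str _ p j0 w W a)
  obtain ⟨h1, h2, -, -, h5⟩ := contraction_props p hL hA h0 haug hj0 V0 hV0 hamp q hq (fun W b e => hqf W b e)
    ε hε (fun W b e => hεf W b e)
  obtain ⟨hqp, hr⟩ := h5 inferInstance
  obtain ⟨v, hvπ, hv⟩ := exists_iso_cone p hj0 hθ q' hq'π hq' q hq (fun W b e => hqf W b e)
  haveI := h2
  haveI := hqp
  haveI := surjective_of_isIso_c p hθ
  have hjq : j0 ≫ q' = p ≫ ε ≫ v.hom := by rw [← hv, reassoc_of% h1]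
  have himg : q'.base '' Set.range j0.base = Set.range (ε ≫ v.hom).base := by
    rw [← Set.range_comp, ← TopCat.coe_comp, ← Scheme.Hom.comp_base, hjq, Scheme.Hom.comp_base, TopCat.coe_comp,
      p.surjective.range_comp]
  have hrange : Set.range (V0.ι ≫ q').base = (Set.range (ε ≫ v.hom).base)ᶜ := by
    rw [← hv, ← Category.assoc, Scheme.Hom.comp_base, TopCat.coe_comp, Set.range_comp, hr, Scheme.Hom.comp_base,
      TopCat.coe_comp, Set.range_comp]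
    exact Set.image_compl_eq v.hom.homeomorph.bijective
  haveI hpr : IsProper q' := by rw [← hv]; infer_instance
  refine ⟨ε ≫ v.hom, by rw [Category.assoc, hvπ, hε], hjq, hpr, ?_, hrange, himg, ⟨fun z => ?_⟩, fun O => ?_⟩
  · rw [← hv, ← Category.assoc]
    infer_instance
  · by_cases hz : z ∈ Set.range (ε ≫ v.hom).base
    · rw [← himg] at hz
      obtain ⟨t, -, ht⟩ := hz
      exact ⟨t, ht⟩
    · obtain ⟨t, ht⟩ := hrange.ge hz
      exact ⟨_, ht⟩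
  · refine FactorDesc.app_bijective_of_affine q' (RelSpec.QCAlg.directImage (𝒜.toQCAlg.π ≫ p)).π (fun W hW => ?_) O
    have happ := congrArg (fun m => m.app (op W)) hq'
    have hW' : (𝒜.toQCAlg.π ≫ p) ⁻¹ᵁ W = q' ⁻¹ᵁ ((RelSpec.QCAlg.directImage (𝒜.toQCAlg.π ≫ p)).π ⁻¹ᵁ W) := by
      rw [← Scheme.Hom.comp_preimage, hq'π]
    rw [algHom_app_eq _ _ q' hq'π W hW'.le] at happ
    have hb : Function.Bijective (q'.appLE ((RelSpec.QCAlg.directImage (𝒜.toQCAlg.π ≫ p)).π ⁻¹ᵁ W)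
        ((𝒜.toQCAlg.π ≫ p) ⁻¹ᵁ W) hW'.le) := by
      rw [happ]
      haveI := RelSpecAlg.isIso_gammaMap (RelSpec.QCAlg.directImage (𝒜.toQCAlg.π ≫ p))
      exact (ConcreteCategory.isIso_iff_bijective _).1 (NatIso.isIso_app_of_isIso _ _)
    rw [Scheme.Hom.app_eq_appLE]
    revert hb
    generalize hW'.le = h'
    revert h'
    rw [hW']
    exact fun _ hb => hb

include hL hA hj0 in
/-- The total space of a line bundle over an integral scheme is integral. -/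
theorem isIntegral_spec [IsIntegral X] : IsIntegral 𝒜.toQCAlg.spec := by
  let ι := {U : X.Opens // IsAffineOpen U ∧ Nonempty U ∧ ∃ e : Γ(L, U), IsFrame L U e}
  have hint : ∀ U : ι, IsIntegral (𝒜.toQCAlg.π ⁻¹ᵁ U.1).toScheme := by
    rintro ⟨U, hU, hne, e, he⟩
    haveI := hne
    haveI : IsAffine (𝒜.toQCAlg.π ⁻¹ᵁ U).toScheme := hU.preimage _
    obtain ⟨x⟩ := hne
    haveI : Nonempty (𝒜.toQCAlg.π ⁻¹ᵁ U).toScheme := ⟨⟨j0.base x.1, j0_le hj0 U x.2⟩⟩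
    have hb : Function.Bijective ((gfun 𝒜.toQCAlg U).comp (polyHom jL e)) :=
      ((ConcreteCategory.isIso_iff_bijective ((RelSpecAlg.gammaIso 𝒜.toQCAlg).inv.app (op U))).1
        inferInstance).comp (polyHom_bijective hA hU he)
    haveI : IsDomain Γ(𝒜.toQCAlg.spec, 𝒜.toQCAlg.π ⁻¹ᵁ U) :=
      MulEquiv.isDomain (Polynomial Γ(X, U)) (RingEquiv.ofBijective _ hb).symm.toMulEquiv
    haveI : IsDomain Γ((𝒜.toQCAlg.π ⁻¹ᵁ U).toScheme, ⊤) :=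
      MulEquiv.isDomain Γ(𝒜.toQCAlg.spec, 𝒜.toQCAlg.π ⁻¹ᵁ U)
        (𝒜.toQCAlg.π ⁻¹ᵁ U).topIso.commRingCatIsoToRingEquiv.toMulEquiv
    exact isIntegral_of_isAffine_of_isDomain _
  have hcov : ∀ v : 𝒜.toQCAlg.spec, ∃ U : ι, v ∈ 𝒜.toQCAlg.π ⁻¹ᵁ U.1 := fun v => by
    obtain ⟨U, hU, e, hxU, -, he⟩ := SymInv.exists_affine_frame (L := L) hL (𝒜.toQCAlg.π.base v) ⊤ trivial
    exact ⟨⟨U, hU, ⟨⟨_, hxU⟩⟩, e, he⟩, hxU⟩
  haveI : IsReduced 𝒜.toQCAlg.spec := by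
    haveI : ∀ v : 𝒜.toQCAlg.spec, _root_.IsReduced (𝒜.toQCAlg.spec.presheaf.stalk v) := fun v => by
      obtain ⟨U, hv⟩ := hcov v
      haveI := hint U
      exact isReduced_of_injective ((𝒜.toQCAlg.π ⁻¹ᵁ U.1).stalkIso ⟨v, hv⟩).inv.hom
        ((𝒜.toQCAlg.π ⁻¹ᵁ U.1).stalkIso ⟨v, hv⟩).symm.commRingCatIsoToRingEquiv.injective
    exact isReduced_of_isReduced_stalk _
  obtain ⟨x⟩ : Nonempty X := inferInstance
  haveI : IrreducibleSpace 𝒜.toQCAlg.spec := by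
    haveI : Nonempty 𝒜.toQCAlg.spec := ⟨j0.base x⟩
    have hirr : ∀ U : ι, IsPreirreducible ((𝒜.toQCAlg.π ⁻¹ᵁ U.1 : 𝒜.toQCAlg.spec.Opens) : Set 𝒜.toQCAlg.spec) :=
      fun U => by
        haveI := hint U
        rw [← Scheme.Opens.range_ι, ← Set.image_univ]
        exact (PreirreducibleSpace.isPreirreducible_univ).image _ (Scheme.Hom.continuous _).continuousOn
    rw [irreducibleSpace_def]
    refine ⟨Set.univ_nonempty, fun O O' hO hO' ⟨a, _, ha⟩ ⟨b, _, hb⟩ => ?_⟩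
    obtain ⟨i, hi⟩ := hcov a
    obtain ⟨j, hj⟩ := hcov b
    obtain ⟨z, hzi, hzj⟩ : ((i.1 : Set X) ∩ j.1).Nonempty := nonempty_preirreducible_inter i.1.2 j.1.2
      ⟨_, i.2.2.1.some.2⟩ ⟨_, j.2.2.1.some.2⟩
    obtain ⟨c, hci, hcO, hcj⟩ := hirr i O _ hO (𝒜.toQCAlg.π ⁻¹ᵁ j.1).2 ⟨a, hi, ha⟩
      ⟨j0.base z, j0_le hj0 i.1 hzi, j0_le hj0 j.1 hzj⟩
    obtain ⟨d, -, ⟨hdO, -⟩, hdO'⟩ := hirr j (O ∩ (𝒜.toQCAlg.π ⁻¹ᵁ i.1 : 𝒜.toQCAlg.spec.Opens)) O'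
      (hO.inter (𝒜.toQCAlg.π ⁻¹ᵁ i.1).2) hO' ⟨c, hcj, hcO, hci⟩ ⟨b, hj, hb⟩
    exact ⟨d, trivial, hdO, hdO'⟩
  exact isIntegral_of_irreducibleSpace_of_isReduced _

end Groth.L18.Contract
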