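import Groth.Agent.L18.Contract.Detect
import Groth.Agent.L18.RelAmpleOps

/-!
# A contraction of the zero section makes the module ample
-/

set_option autoImplicit false
set_option linter.style.haveILetI false
set_option backward.isDefEq.respectTransparency false

noncomputable section

universe u

open CategoryTheory CategoryTheory.Limits AlgebraicGeometry TopologicalSpace Opposite
open Groth.L18
open Groth.L18.Frame (rs ro rs_rs rs_self rs_smul ro_ro ro_self IsFrame)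

namespace Groth.L18.Contract

/-- Grauert's criterion, the direction from a contraction. -/
theorem isRelAmple_of_contraction {X Y C : Scheme.{u}} (p : X ⟶ Y) [QuasiCompact p] {L : X.Modules}
    [Coh.IsQCoh L] (hL : PicF.IsInvertible L) {𝒜 : RelProj.QCGrAlg X} {jL : L ⟶ 𝒜.toModule}
    (hA : RelProj.IsGrSymAlg L 𝒜 jL) (h0 : RelCone.StrZeroBij 𝒜)
    {aug : 𝒜.toQCAlg ⟶ RelSpec.QCAlg.unit X} (haug : RelCone.IsAugmentation 𝒜 aug)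
    {j0 : X ⟶ 𝒜.toQCAlg.spec} (hj0 : RelCone.IsVertex 𝒜 aug j0)
    {V0 : 𝒜.toQCAlg.spec.Opens} (hV0 : (V0 : Set 𝒜.toQCAlg.spec) = (Set.range j0.base)ᶜ)
    (g : C ⟶ Y) (ε : Y ⟶ C) (q : 𝒜.toQCAlg.spec ⟶ C) (hε : ε ≫ g = 𝟙 Y)
    (hq : q ≫ g = 𝒜.toQCAlg.π ≫ p) (hjq : j0 ≫ q = p ≫ ε) (himm : IsOpenImmersion (V0.ι ≫ q))
    (hdis : Set.range (V0.ι ≫ q).base ∩ Set.range ε.base = ∅) : RelAmple.IsRelAmple p L := by
  haveI := himm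
  refine Groth.L18.Ample.isRelAmple_of_local p fun y => ?_
  obtain ⟨Y2, hY2, hyY2, -⟩ := exists_isAffineOpen_mem_and_subset (Opens.mem_top y)
  have hge : ∀ z, g.base (ε.base z) = z := fun z => by
    rw [← Scheme.Hom.comp_apply, hε]
    rfl
  obtain ⟨W0, hW0, hyW0, hW0le⟩ := exists_isAffineOpen_mem_and_subset
    (show ε.base y ∈ g ⁻¹ᵁ Y2 from (show g.base (ε.base y) ∈ Y2 by rw [hge]; exact hyY2))
  obtain ⟨h, hh, hyh⟩ := hY2.exists_basicOpen_le (V := ε ⁻¹ᵁ W0) ⟨y, hyW0⟩ hyY2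
  let Y1 := Y.basicOpen h
  refine ⟨Y1, hY2.basicOpen h, hyh, ?_⟩
  let W1 := C.basicOpen (g.appLE Y2 W0 hW0le h)
  have hW1 : IsAffineOpen W1 := hW0.basicOpen _
  have hW1' : ∀ z, z ∈ W1 ↔ z ∈ W0 ∧ g.base z ∈ Y1 := fun z => by
    show z ∈ C.basicOpen _ ↔ _
    rw [Scheme.basicOpen_appLE]
    rfl
  set Ω := p ⁻¹ᵁ Y1
  have hεW1 : ∀ z ∈ Y1, ε.base z ∈ W1 := fun z hz => (hW1' _).2 ⟨hh hz, by rwa [hge]⟩
  have hO : Ω ≤ j0 ⁻¹ᵁ (q ⁻¹ᵁ W1) := fun x hx => by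
    show q.base (j0.base x) ∈ W1
    rw [← Scheme.Hom.comp_apply, hjq]
    exact hεW1 _ hx
  refine isAmple_of_secs hL (p.isCompact_preimage (hY2.basicOpen h).isCompact) fun x hx => ?_
  obtain ⟨U, hU, e, hxU, hUΩ, he⟩ := SymInv.exists_affine_frame (L := L) hL x Ω hx
  obtain ⟨u, w, -, hw, -, hw0, hwx, hwO⟩ := exists_line_points hA h0 haug hj0 hV0 hU he ⟨x, hxU⟩
  have hwW : (𝒜.toQCAlg.ι U hU).base w ∈ q ⁻¹ᵁ W1 := hwO _ (hO hx)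
  let G : C.Opens := (V0.ι ≫ q) ''ᵁ (V0.ι ⁻¹ᵁ (𝒜.toQCAlg.π ⁻¹ᵁ U)) ⊓ W1
  have hwG : q.base ((𝒜.toQCAlg.ι U hU).base w) ∈ G :=
    ⟨⟨⟨_, hw0⟩, show 𝒜.toQCAlg.π.base ((𝒜.toQCAlg.ι U hU).base w) ∈ U by rw [hwx]; exact hxU, rfl⟩, hwW⟩
  obtain ⟨a, haG, hwa⟩ := hW1.exists_basicOpen_le (V := G) ⟨_, hwG⟩ hwW
  let f : Γ(𝒜.toQCAlg.spec, q ⁻¹ᵁ W1) := q.app W1 a
  have hf : ∀ v, v ∈ 𝒜.toQCAlg.spec.basicOpen f → q.base v ∈ G := fun v hv => by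
    rw [← Scheme.preimage_basicOpen] at hv
    exact haG hv
  obtain ⟨σ, hσ0, hσv, hσw⟩ := exists_components hA h0 haug hj0 hV0 hL hO f
  obtain ⟨n, hn⟩ := hσw U hU hUΩ e he ⟨x, hxU⟩ w hw (by rw [← Scheme.preimage_basicOpen]; exact hwa)
  have h0' : ∀ z ∈ Ω, z ∉ secLocus (σ 0) := fun z hz => hσ0 z hz fun hzf => by
    obtain ⟨⟨v, -, hv⟩, -⟩ := hf _ hzf
    have hmem : ε.base (p.base z) ∈ Set.range (V0.ι ≫ q).base ∩ Set.range ε.base := by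
      refine ⟨⟨v, hv.trans ?_⟩, _, rfl⟩
      rw [← Scheme.Hom.comp_apply, hjq]
      rfl
    rw [hdis] at hmem
    exact hmem
  obtain _ | m := n
  · exact (h0' x hx hn).elim
  refine ⟨m, σ (m + 1), U, hU, hUΩ, hn, fun z hz => ?_⟩
  by_contra hzU
  refine hσv z (secLocus_le _ hz) (fun v hv hvz hvf => hzU ?_) (m + 1) hz
  obtain ⟨⟨v', hv', hvv⟩, -⟩ := hf _ hvf
  have : v' = ⟨v, hv⟩ := (V0.ι ≫ q).isOpenEmbedding.injective (hvv.trans rfl)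
  rw [← hvz]
  subst this
  exact hv'

end Groth.L18.Contract
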