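import Groth.Agent.L18.Contract.Basic
import Groth.Agent.L18.Contract.SecAmple

/-!
# Sections of powers as homogeneous functions on the line bundle
-/

set_option autoImplicit false
set_option linter.style.haveILetI false
set_option backward.isDefEq.respectTransparency false

noncomputable section

universe u

open CategoryTheory CategoryTheory.Limits AlgebraicGeometry TopologicalSpace Opposite
open Groth.L18
open Groth.L18.Frame (rs ro rs_rs rs_self rs_smul ro_ro ro_self IsFrame)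
open Groth.L18.NormDesc (pf pf_rs pf_smul isFrame_pf)

namespace Groth.L18.Contract

variable {X : Scheme.{u}} {L : X.Modules} {𝒜 : RelProj.QCGrAlg X} (jL : L ⟶ 𝒜.toModule)

/-- The monomial attached to a coefficient and a frame. -/
def mono {U : X.Opens} (n : ℕ) (c : Γ(X, U)) (e : Γ(L, U)) : Γ(𝒜.toQCAlg.spec, 𝒜.toQCAlg.π ⁻¹ᵁ U) :=
  𝒜.toQCAlg.π.app U c * lin jL e ^ n

theorem mono_res {U V : X.Opens} (h : V ≤ U) (n : ℕ) (c : Γ(X, U)) (e : Γ(L, U)) :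
    ro (𝒜.toQCAlg.π.preimage_mono h) (mono jL n c e) = mono jL n (ro h c) (rs L h e) := by
  rw [mono, mono]
  refine (map_mul (𝒜.toQCAlg.spec.presheaf.map (homOfLE (𝒜.toQCAlg.π.preimage_mono h)).op).hom _ _).trans ?_
  rw [map_pow]
  refine congrArg₂ (· * ·) ?_ (congrArg (· ^ n) (lin_rs jL h e))
  exact (ConcreteCategory.congr_hom (𝒜.toQCAlg.π.naturality (homOfLE h).op) c).symm

theorem mono_congr (hL : PicF.IsInvertible L) {U : X.Opens} (n : ℕ) {c c' : Γ(X, U)} {e e' : Γ(L, U)}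
    (he : IsFrame L U e) (h : c • pf e n = c' • pf e' n) : mono jL n c e = mono jL n c' e' := by
  obtain ⟨a, ha⟩ := he.exists_coeff le_rfl e'
  rw [rs_self] at ha
  subst ha
  rw [pf_smul, ← mul_smul] at h
  have hc : c = c' * a ^ n := (isFrame_pf he n).inj le_rfl (a := c) (b := c' * a ^ n) (by rw [rs_self]; exact h)
  rw [mono, mono, lin_smul, mul_pow, ← map_pow, ← mul_assoc, ← map_mul, hc]

/-- `f` is the function attached to `σ`. -/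
def IsPowFun {Ω : X.Opens} {n : ℕ} (σ : Γ(CohB1.tensorPow L n, Ω))
    (f : Γ(𝒜.toQCAlg.spec, 𝒜.toQCAlg.π ⁻¹ᵁ Ω)) : Prop :=
  ∀ (W : X.Opens) (h : W ≤ Ω) (e : Γ(L, W)) (c : Γ(X, W)), IsFrame L W e →
    c • pf e n = rs (CohB1.tensorPow L n) h σ → ro (𝒜.toQCAlg.π.preimage_mono h) f = mono jL n c e

theorem exists_powFun (hL : PicF.IsInvertible L) {Ω : X.Opens} {n : ℕ} (σ : Γ(CohB1.tensorPow L n, Ω)) :
    ∃ f, IsPowFun jL σ f := by
  have hloc : ∀ x : Ω, ∃ (W : X.Opens) (_ : W ≤ Ω) (e : Γ(L, W)), x.1 ∈ W ∧ IsFrame L W e := fun x => by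
    obtain ⟨U, -, e, hxU, hUV, he⟩ := SymInv.exists_affine_frame (L := L) hL x.1 Ω x.2
    exact ⟨U, hUV, e, hxU, he⟩
  choose W hW e hxW he using hloc
  have hc : ∀ x, ∃ c : Γ(X, W x), c • pf (e x) n = rs (CohB1.tensorPow L n) (hW x) σ := fun x => by
    obtain ⟨c, hc⟩ := (isFrame_pf (he x) n).exists_coeff le_rfl (rs (CohB1.tensorPow L n) (hW x) σ)
    exact ⟨c, by rwa [rs_self] at hc⟩
  choose c hc using hc
  have hcomp : ∀ (x : Ω) (V : X.Opens) (h₁ : V ≤ W x) (h : V ≤ Ω) (e' : Γ(L, V)) (c' : Γ(X, V)),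
      IsFrame L V e' → c' • pf e' n = rs (CohB1.tensorPow L n) h σ →
        ro (𝒜.toQCAlg.π.preimage_mono h₁) (mono jL n (c x) (e x)) = mono jL n c' e' := by
    intro x V h₁ h e' c' he' hc'
    rw [mono_res]
    refine mono_congr jL hL n ((he x).mono h₁) ?_
    have h3 := congrArg (rs (CohB1.tensorPow L n) h₁) (hc x)
    rw [rs_smul, pf_rs, rs_rs] at h3
    exact h3.trans hc'.symm
  obtain ⟨f, hf, -⟩ := TopCat.Sheaf.existsUnique_gluing' 𝒜.toQCAlg.spec.sheaf (fun x => 𝒜.toQCAlg.π ⁻¹ᵁ W x)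
    (𝒜.toQCAlg.π ⁻¹ᵁ Ω) (fun x => homOfLE (𝒜.toQCAlg.π.preimage_mono (hW x)))
    (fun v hv => Opens.mem_iSup.2 ⟨⟨_, hv⟩, hxW ⟨_, hv⟩⟩) (fun x => mono jL n (c x) (e x)) fun x y => by
      show ro (inf_le_left : 𝒜.toQCAlg.π ⁻¹ᵁ W x ⊓ 𝒜.toQCAlg.π ⁻¹ᵁ W y ≤ _) _ =
        ro (inf_le_right : 𝒜.toQCAlg.π ⁻¹ᵁ W x ⊓ 𝒜.toQCAlg.π ⁻¹ᵁ W y ≤ _) _
      have h3 := congrArg (rs (CohB1.tensorPow L n) (inf_le_left : W x ⊓ W y ≤ W x)) (hc x)
      rw [rs_smul, pf_rs, rs_rs] at h3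
      exact ((mono_res jL (inf_le_left : W x ⊓ W y ≤ W x) n (c x) (e x)).trans
        (hcomp y (W x ⊓ W y) inf_le_right _ _ _ ((he x).mono inf_le_left) h3).symm)
  refine ⟨f, fun V h e' c' he' hc' => ?_⟩
  refine TopCat.Sheaf.eq_of_locally_eq' 𝒜.toQCAlg.spec.sheaf (fun x => 𝒜.toQCAlg.π ⁻¹ᵁ (W x ⊓ V))
    (𝒜.toQCAlg.π ⁻¹ᵁ V) (fun x => homOfLE (𝒜.toQCAlg.π.preimage_mono inf_le_right))
    (fun v hv => Opens.mem_iSup.2 ⟨⟨_, h hv⟩, hxW _, hv⟩) _ _ fun x => ?_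
  have h3 := congrArg (rs (CohB1.tensorPow L n) (inf_le_right : W x ⊓ V ≤ V)) hc'
  rw [rs_smul, pf_rs, rs_rs] at h3
  show ro (𝒜.toQCAlg.π.preimage_mono inf_le_right) (ro (𝒜.toQCAlg.π.preimage_mono h) f) =
    ro (𝒜.toQCAlg.π.preimage_mono inf_le_right) (mono jL n c' e')
  rw [mono_res jL (inf_le_right : W x ⊓ V ≤ V), ← hcomp x (W x ⊓ V) inf_le_left _ _ _ (he'.mono inf_le_right) h3, ← hf x]
  exact (ro_ro _ _ _).trans (ro_ro _ _ _).symm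

variable {jL} (hA : RelProj.IsGrSymAlg L 𝒜 jL) (h0 : RelCone.StrZeroBij 𝒜)
  {aug : 𝒜.toQCAlg ⟶ RelSpec.QCAlg.unit X} (haug : RelCone.IsAugmentation 𝒜 aug)
  {j0 : X ⟶ 𝒜.toQCAlg.spec} (hj0 : RelCone.IsVertex 𝒜 aug j0)
  {V0 : 𝒜.toQCAlg.spec.Opens} (hV0 : (V0 : Set 𝒜.toQCAlg.spec) = (Set.range j0.base)ᶜ)

include hA h0 haug hj0 hV0 in
theorem basicOpen_powFun [Coh.IsQCoh L] (hL : PicF.IsInvertible L) {Ω : X.Opens} {n : ℕ}
    {σ : Γ(CohB1.tensorPow L (n + 1), Ω)} {f : Γ(𝒜.toQCAlg.spec, 𝒜.toQCAlg.π ⁻¹ᵁ Ω)} (hf : IsPowFun jL σ f) :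
    𝒜.toQCAlg.spec.basicOpen f = V0 ⊓ 𝒜.toQCAlg.π ⁻¹ᵁ secLocus σ := by
  ext v
  have key : 𝒜.toQCAlg.π.base v ∈ Ω → (v ∈ 𝒜.toQCAlg.spec.basicOpen f ↔
      v ∈ V0 ∧ 𝒜.toQCAlg.π.base v ∈ secLocus σ) := by
    intro hv
    obtain ⟨W, hW, e, hvW, hWΩ, he⟩ := SymInv.exists_affine_frame (L := L) hL _ Ω hv
    obtain ⟨c, hc⟩ := (isFrame_pf he (n + 1)).exists_coeff le_rfl (rs (CohB1.tensorPow L (n + 1)) hWΩ σ)
    rw [rs_self] at hc
    have h1 := congrArg 𝒜.toQCAlg.spec.basicOpen (hf W hWΩ e c he hc)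
    rw [Scheme.basicOpen_res, mono, Scheme.basicOpen_mul, Scheme.basicOpen_pow _ (lin jL e) n.succ_pos,
      basicOpen_lin jL hA h0 haug hj0 V0 hV0 he, ← Scheme.preimage_basicOpen,
      ← secLocus_inf_eq σ (isFrame_pf he (n + 1)) hWΩ hc] at h1
    have h2 := SetLike.ext_iff.1 h1 v
    simp only [Opens.mem_inf, Scheme.Hom.mem_preimage] at h2
    constructor
    · intro h
      obtain ⟨⟨h3, -⟩, h4, -⟩ := h2.1 ⟨hvW, h⟩
      exact ⟨h4, h3⟩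
    · rintro ⟨h3, h4⟩
      exact (h2.2 ⟨⟨h4, hvW⟩, h3, hvW⟩).2
  constructor
  · intro h
    exact (key (𝒜.toQCAlg.spec.basicOpen_le f h)).1 h
  · intro h
    exact (key (secLocus_le σ h.2)).2 h

include hA haug hj0 in
theorem j0_powFun (hL : PicF.IsInvertible L) {Ω : X.Opens} {n : ℕ}
    {σ : Γ(CohB1.tensorPow L (n + 1), Ω)} {f : Γ(𝒜.toQCAlg.spec, 𝒜.toQCAlg.π ⁻¹ᵁ Ω)} (hf : IsPowFun jL σ f) :
    j0.appLE (𝒜.toQCAlg.π ⁻¹ᵁ Ω) Ω (j0_le hj0 Ω) f = 0 := by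
  have hloc : ∀ x : Ω, ∃ (W : X.Opens) (_ : W ≤ Ω) (e : Γ(L, W)), x.1 ∈ W ∧ IsFrame L W e := fun x => by
    obtain ⟨U, -, e, hxU, hUV, he⟩ := SymInv.exists_affine_frame (L := L) hL x.1 Ω x.2
    exact ⟨U, hUV, e, hxU, he⟩
  choose W hW e hxW he using hloc
  refine TopCat.Sheaf.eq_of_locally_eq' X.sheaf W Ω (fun x => homOfLE (hW x))
    (fun x hx => Opens.mem_iSup.2 ⟨⟨x, hx⟩, hxW ⟨x, hx⟩⟩) _ _ fun x => ?_
  obtain ⟨c, hc⟩ := (isFrame_pf (he x) (n + 1)).exists_coeff le_rfl (rs (CohB1.tensorPow L (n + 1)) (hW x) σ)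
  rw [rs_self] at hc
  rw [map_zero]
  show ro (hW x) _ = 0
  rw [ro, ← CommRingCat.comp_apply, Scheme.Hom.appLE_map,
    ← Scheme.Hom.map_appLE j0 (j0_le hj0 (W x)) (homOfLE (𝒜.toQCAlg.π.preimage_mono (hW x))).op, CommRingCat.comp_apply,
    show (𝒜.toQCAlg.spec.presheaf.map (homOfLE (𝒜.toQCAlg.π.preimage_mono (hW x))).op).hom f =
      mono jL (n + 1) c (e x) from hf (W x) (hW x) (e x) c (he x) hc, mono, map_mul, map_pow,
    j0_lin jL hA haug hj0, zero_pow n.succ_ne_zero, mul_zero]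

/-- Sections of a power from compatible homogeneous elements. -/
theorem exists_sec_of_family [Coh.IsQCoh L] (hL : PicF.IsInvertible L) (hA : RelProj.IsGrSymAlg L 𝒜 jL)
    {Ω : X.Opens} {n : ℕ} (t : ∀ U : X.affineOpens, (U.1 : X.Opens) ≤ Ω → 𝒜.presheaf.obj (op (U.1 : X.Opens)))
    (ht : ∀ U h, t U h ∈ 𝒜.deg U.1 U.2 n)
    (hres : ∀ (U U' : X.affineOpens) (h : (U.1 : X.Opens) ≤ Ω) (h' : (U'.1 : X.Opens) ≤ U.1),
      (𝒜.presheaf.map (homOfLE h').op).hom (t U h) = t U' (h'.trans h)) :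
    ∃ σ : Γ(CohB1.tensorPow L n, Ω), ∀ (U : X.affineOpens) (h : (U.1 : X.Opens) ≤ Ω) (e : Γ(L, (U.1 : X.Opens))),
      IsFrame L U.1 e → ∀ c : Γ(X, (U.1 : X.Opens)),
        t U h = (𝒜.str.app (op (U.1 : X.Opens))).hom c * SymInv.gen jL e ^ n →
          c • pf e n = rs (CohB1.tensorPow L n) h σ := by
  let ι := Σ' (U : X.affineOpens) (_ : (U.1 : X.Opens) ≤ Ω) (e : Γ(L, (U.1 : X.Opens))), IsFrame L U.1 e
  have hcoef : ∀ k : ι, ∃ c : Γ(X, (k.1.1 : X.Opens)),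
      t k.1 k.2.1 = (𝒜.str.app (op (k.1.1 : X.Opens))).hom c * SymInv.gen jL k.2.2.1 ^ n := fun k =>
    (SymInv.mem_deg_iff hA k.1.2 k.2.2.2 n _).1 (ht k.1 k.2.1)
  choose c hc using hcoef
  have hcomp : ∀ (k : ι) (U' : X.affineOpens) (h' : (U'.1 : X.Opens) ≤ k.1.1) (e' : Γ(L, (U'.1 : X.Opens)))
      (c' : Γ(X, (U'.1 : X.Opens))), t U' (h'.trans k.2.1) = (𝒜.str.app (op (U'.1 : X.Opens))).hom c' * SymInv.gen jL e' ^ n →
      rs (CohB1.tensorPow L n) h' (c k • pf k.2.2.1 n) = c' • pf e' n := by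
    intro k U' h' e' c' hc'
    have hek : IsFrame L (U'.1 : X.Opens) (rs L h' k.2.2.1) := k.2.2.2.mono h'
    obtain ⟨a, ha⟩ := hek.exists_coeff le_rfl e'
    rw [rs_self] at ha
    have h1 : (𝒜.presheaf.map (homOfLE h').op).hom (t k.1 k.2.1) =
        (𝒜.str.app (op (U'.1 : X.Opens))).hom (ro h' (c k)) * SymInv.gen jL (rs L h' k.2.2.1) ^ n := by
      rw [hc k]
      refine (map_mul _ _ _).trans ?_
      rw [map_pow]
      refine congrArg₂ (· * ·) ?_ (congrArg (· ^ n) ?_)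
      · exact (ConcreteCategory.congr_hom (𝒜.str.naturality (homOfLE h').op) (c k)).symm
      · exact (ConcreteCategory.congr_hom (jL.mapPresheaf.naturality (homOfLE h').op) k.2.2.1).symm
    rw [hres k.1 U' k.2.1 h', hc', ← ha] at h1
    have h2 : SymInv.gen jL (a • rs L h' k.2.2.1) =
        (𝒜.str.app (op (U'.1 : X.Opens))).hom a * SymInv.gen jL (rs L h' k.2.2.1) :=
      Scheme.Modules.Hom.app_smul jL a _
    rw [h2, mul_pow, ← mul_assoc, ← map_pow, ← map_mul] at h1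
    have h3 : c' * a ^ n = ro h' (c k) := sub_eq_zero.1 (SymInv.coeff_eq_zero hA U'.2 hek n (by
      rw [map_sub, sub_mul, h1, sub_self]))
    rw [rs_smul, pf_rs, ← ha, pf_smul, ← mul_smul, h3]
  obtain ⟨σ, hσ, -⟩ := TopCat.Sheaf.existsUnique_gluing'
    (⟨(CohB1.tensorPow L n).presheaf, (CohB1.tensorPow L n).isSheaf⟩ : TopCat.Sheaf Ab X.toTopCat)
    (fun k : ι => (k.1.1 : X.Opens)) Ω (fun k => homOfLE k.2.1)
    (fun x hx => by
      obtain ⟨U, hU, e, hxU, hUΩ, he⟩ := SymInv.exists_affine_frame (L := L) hL x Ω hx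
      exact Opens.mem_iSup.2 ⟨⟨⟨U, hU⟩, hUΩ, e, he⟩, hxU⟩)
    (fun k => c k • pf k.2.2.1 n) fun k l => by
      show rs (CohB1.tensorPow L n) (inf_le_left : (k.1.1 : X.Opens) ⊓ l.1.1 ≤ _) _ =
        rs (CohB1.tensorPow L n) (inf_le_right : (k.1.1 : X.Opens) ⊓ l.1.1 ≤ _) _
      refine TopCat.Sheaf.eq_of_locally_eq'
        (⟨(CohB1.tensorPow L n).presheaf, (CohB1.tensorPow L n).isSheaf⟩ : TopCat.Sheaf Ab X.toTopCat)
        (fun m : {m : X.affineOpens // (m.1 : X.Opens) ≤ k.1.1 ⊓ l.1.1} => (m.1.1 : X.Opens)) _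
        (fun m => homOfLE m.2) (fun x hx => ?_) _ _ fun m => ?_
      · obtain ⟨U, hU, hxU, hUkl⟩ := exists_isAffineOpen_mem_and_subset hx
        exact Opens.mem_iSup.2 ⟨⟨⟨U, hU⟩, hUkl⟩, hxU⟩
      · obtain ⟨c', hc'⟩ := (SymInv.mem_deg_iff hA m.1.2 (k.2.2.2.mono (m.2.trans inf_le_left)) n _).1
          (ht m.1 (m.2.trans (inf_le_left.trans k.2.1)))
        show rs (CohB1.tensorPow L n) m.2 (rs _ _ _) = rs (CohB1.tensorPow L n) m.2 (rs _ _ _)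
        rw [rs_rs, rs_rs, hcomp k m.1 (m.2.trans inf_le_left) _ c' hc',
          hcomp l m.1 (m.2.trans inf_le_right) (rs L (m.2.trans inf_le_left) k.2.2.1) c' hc']
  refine ⟨σ, fun U h e he c' hc' => ?_⟩
  have h4 := hcomp ⟨U, h, e, he⟩ U le_rfl e c' hc'
  rw [rs_self] at h4
  exact h4.symm.trans (hσ ⟨U, h, e, he⟩).symm

end Groth.L18.Contract
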