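import Groth.Agent.L18.Contract.Cone
import Groth.Agent.L18.Contract.PowFun

/-!
# Contracting the zero section of an ample line bundle
-/

set_option autoImplicit false
set_option linter.style.haveILetI false
set_option backward.isDefEq.respectTransparency false

noncomputable section

universe u

open CategoryTheory CategoryTheory.Limits AlgebraicGeometry TopologicalSpace Opposite
open Groth.L18
open Groth.L18.Frame (rs ro rs_rs rs_self rs_smul ro_ro ro_self IsFrame)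

namespace Groth.L18.Contract

/-- A morphism whose comorphism becomes bijective on a basic open of an affine open is an isomorphism there. -/
theorem isIso_restrict_basicOpen {A B : Scheme.{u}} (h : B ⟶ A) {U : A.Opens} (hU : IsAffineOpen U) (s : Γ(A, U))
    {W : B.Opens} (hWU : W = h ⁻¹ᵁ U) (hWc : IsCompact (W : Set B)) (hWq : IsQuasiSeparated (W : Set B))
    (hD : IsAffineOpen (h ⁻¹ᵁ A.basicOpen s))
    (hsurj : ∀ y : Γ(B, W), ∃ x, h.appLE U W hWU.le x = y * h.appLE U W hWU.le s)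
    (hinj : ∀ x : Γ(A, U), h.appLE U W hWU.le x = 0 → s * x = 0) : IsIso (h ∣_ A.basicOpen s) := by
  haveI := hU.isLocalization_basicOpen s
  subst hWU
  let φ : Γ(A, U) →+* Γ(B, h ⁻¹ᵁ U) := (h.appLE U (h ⁻¹ᵁ U) le_rfl).hom
  have hφa : ∀ x, φ x = h.app U x := fun x => by simp [φ, Scheme.Hom.app_eq_appLE]
  have hle : h ⁻¹ᵁ A.basicOpen s ≤ h ⁻¹ᵁ U := h.preimage_mono (A.basicOpen_le s)
  have hnat : ∀ x, ro hle (φ x) = h.app (A.basicOpen s) (ro (A.basicOpen_le s) x) := fun x => by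
    rw [hφa, app_res h (A.basicOpen_le s)]
  have hbij : Function.Bijective (h.app (A.basicOpen s)) := by
    have heq : h ⁻¹ᵁ A.basicOpen s = B.basicOpen (φ s) := by
      rw [show φ s = h.appLE U (h ⁻¹ᵁ U) le_rfl s from rfl]
      exact preimage_basicOpen_appLE h rfl s
    haveI hloc := isLocalization_basicOpen_of_qcqs hWc hWq (φ s)
    have hS : ∀ z : Γ(B, h ⁻¹ᵁ A.basicOpen s), ∃ (n : ℕ) (y : Γ(B, h ⁻¹ᵁ U)), z * ro hle (φ s) ^ n = ro hle y := by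
      rw [show ∀ (O : B.Opens) (e : O = B.basicOpen (φ s)) (hO : O ≤ h ⁻¹ᵁ U),
        (∀ z : Γ(B, O), ∃ (n : ℕ) (y : Γ(B, h ⁻¹ᵁ U)), z * ro hO (φ s) ^ n = ro hO y) = True from ?_]
      · trivial
      · exact heq
      intro O e hO
      subst e
      exact eq_true fun z => IsLocalization.Away.surj (φ s) z
    have hI : ∀ y : Γ(B, h ⁻¹ᵁ U), ro hle y = 0 → ∃ n : ℕ, φ s ^ n * y = 0 := by
      rw [show ∀ (O : B.Opens) (e : O = B.basicOpen (φ s)) (hO : O ≤ h ⁻¹ᵁ U),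
        (∀ y : Γ(B, h ⁻¹ᵁ U), ro hO y = 0 → ∃ n : ℕ, φ s ^ n * y = 0) = True from ?_]
      · trivial
      · exact heq
      intro O e hO
      subst e
      refine eq_true fun y hy => ?_
      obtain ⟨⟨_, n, rfl⟩, hn⟩ := (IsLocalization.map_eq_zero_iff (Submonoid.powers (φ s))
        Γ(B, B.basicOpen (φ s)) y).1 hy
      exact ⟨n, hn⟩
    have hu : IsUnit (ro (A.basicOpen_le s) s) := RingedSpace.isUnit_res_basicOpen A.toRingedSpace s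
    constructor
    · rw [injective_iff_map_eq_zero]
      intro z hz
      obtain ⟨n, x, hx⟩ := IsLocalization.Away.surj (S := Γ(A, A.basicOpen s)) s z
      change z * ro (A.basicOpen_le s) s ^ n = ro (A.basicOpen_le s) x at hx
      have h1 : ro hle (φ x) = 0 := by rw [hnat, ← hx, map_mul, hz, zero_mul]
      obtain ⟨k, hk⟩ := hI _ h1
      rw [← map_pow, ← map_mul] at hk
      have h2 := congrArg (ro (A.basicOpen_le s)) (hinj _ hk)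
      rw [Frame.ro_mul, Frame.ro_mul, ro_pow', ← hx] at h2
      have h3 : z * (ro (A.basicOpen_le s) s ^ (n + k + 1)) = 0 := by
        rw [show (ro (A.basicOpen_le s) (0 : Γ(A, U))) = 0 from map_zero (A.presheaf.map _).hom] at h2
        rw [← h2]; ring
      exact (hu.pow _).mul_left_eq_zero.1 h3
    · intro z
      obtain ⟨n, y, hy⟩ := hS z
      obtain ⟨x, hx⟩ := hsurj y
      change φ x = y * φ s at hx
      obtain ⟨t, ht⟩ := hu.pow (n + 1)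
      refine ⟨ro (A.basicOpen_le s) x * ↑t⁻¹, ?_⟩
      have h1 : h.app (A.basicOpen s) ↑t = ro hle (φ s) ^ (n + 1) := by rw [ht, map_pow, hnat]
      have h2 : IsUnit (h.app (A.basicOpen s) (↑t : Γ(A, A.basicOpen s))) := t.isUnit.map _
      refine h2.mul_left_injective ?_
      show h.app (A.basicOpen s) (_ * ↑t⁻¹) * h.app (A.basicOpen s) ↑t = z * h.app (A.basicOpen s) ↑t
      rw [← map_mul, mul_assoc, Units.inv_mul, mul_one, ← hnat, hx, Frame.ro_mul, ← hy, h1]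
      ring
  haveI : IsIso (h.app (A.basicOpen s)) := (ConcreteCategory.isIso_iff_bijective _).2 hbij
  have hA : IsAffineOpen (A.basicOpen s) := hU.basicOpen s
  haveI : IsIso (A.basicOpen s).toSpecΓ := by
    rw [← hA.isoSpec_hom]; infer_instance
  haveI : IsIso (h ⁻¹ᵁ A.basicOpen s).toSpecΓ := by
    rw [← hD.isoSpec_hom]; infer_instance
  haveI : IsIso ((h ∣_ A.basicOpen s) ≫ (A.basicOpen s).toSpecΓ) := by
    rw [← Scheme.Opens.toSpecΓ_naturality]; infer_instance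
  exact IsIso.of_isIso_comp_right (h ∣_ A.basicOpen s) (A.basicOpen s).toSpecΓ

variable {X Y : Scheme.{u}} (p : X ⟶ Y) {L : X.Modules} [Coh.IsQCoh L] (hL : PicF.IsInvertible L)
  {𝒜 : RelProj.QCGrAlg X} {jL : L ⟶ 𝒜.toModule}
  (hA : RelProj.IsGrSymAlg L 𝒜 jL) (h0 : RelCone.StrZeroBij 𝒜)
  {aug : 𝒜.toQCAlg ⟶ RelSpec.QCAlg.unit X} (haug : RelCone.IsAugmentation 𝒜 aug)
  {j0 : X ⟶ 𝒜.toQCAlg.spec} (hj0 : RelCone.IsVertex 𝒜 aug j0)
  (V0 : 𝒜.toQCAlg.spec.Opens) (hV0 : (V0 : Set 𝒜.toQCAlg.spec) = (Set.range j0.base)ᶜ)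

include hj0 in
theorem j0_comp : j0 ≫ 𝒜.toQCAlg.π ≫ p = p := by rw [← Category.assoc, hj0.comp_π, Category.id_comp]

include hL hA h0 haug hj0 hV0 in
theorem quasiCompact_V0 [QuasiCompact p] : QuasiCompact (V0.ι ≫ 𝒜.toQCAlg.π ≫ p) := by
  haveI : IsAffineHom (V0.ι ≫ 𝒜.toQCAlg.π) := isAffineHom_of_forall_exists_isAffineOpen _ fun x => by
    obtain ⟨U, hU, e, hxU, -, he⟩ := SymInv.exists_affine_frame (L := L) hL x ⊤ trivial
    refine ⟨U, hxU, hU, ?_⟩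
    rw [Scheme.Hom.comp_preimage, ← Scheme.Hom.isAffineOpen_iff_of_isOpenImmersion V0.ι,
      Scheme.Hom.image_preimage_eq_opensRange_inf, Scheme.Opens.opensRange_ι,
      ← basicOpen_lin jL hA h0 haug hj0 V0 hV0 he]
    exact (hU.preimage 𝒜.toQCAlg.π).basicOpen _
  rw [← Category.assoc]
  infer_instance

include hL hA h0 haug hj0 hV0 in
/-- An affine chart of the cone over which the line bundle maps isomorphically. -/
theorem exists_cone_chart [QuasiCompact p] [IsSeparated p] (hamp : RelAmple.IsRelAmple p L)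
    {q : 𝒜.toQCAlg.spec ⟶ (coneAlg (𝒜.toQCAlg.π ≫ p) p j0 (j0_comp p hj0)).spec}
    (hq : q ≫ (coneAlg (𝒜.toQCAlg.π ≫ p) p j0 (j0_comp p hj0)).π = 𝒜.toQCAlg.π ≫ p)
    (hqf : ∀ (W : Y.Opens) b e, q.appLE ((coneAlg (𝒜.toQCAlg.π ≫ p) p j0 (j0_comp p hj0)).π ⁻¹ᵁ W)
      ((𝒜.toQCAlg.π ≫ p) ⁻¹ᵁ W) e (gfun _ W b) = cfst (𝒜.toQCAlg.π ≫ p) p j0 (j0_comp p hj0) W b)
    {W : Y.Opens} (hW : IsAffineOpen W) {x : X} (hx : x ∈ p ⁻¹ᵁ W) :
    ∃ (n : ℕ) (σ : Γ(CohB1.tensorPow L (n + 1), p ⁻¹ᵁ W))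
      (f : Γ(𝒜.toQCAlg.spec, (𝒜.toQCAlg.π ≫ p) ⁻¹ᵁ W))
      (b : (coneAlg (𝒜.toQCAlg.π ≫ p) p j0 (j0_comp p hj0)).presheaf.obj (op W)),
      IsPowFun jL σ f ∧ cfst (𝒜.toQCAlg.π ≫ p) p j0 (j0_comp p hj0) W b = f ∧
      csnd (𝒜.toQCAlg.π ≫ p) p j0 (j0_comp p hj0) W b = 0 ∧ x ∈ secLocus σ ∧ IsAffineOpen (secLocus σ) ∧
      q ⁻¹ᵁ (coneAlg (𝒜.toQCAlg.π ≫ p) p j0 (j0_comp p hj0)).spec.basicOpen (gfun _ W b) =
        V0 ⊓ 𝒜.toQCAlg.π ⁻¹ᵁ secLocus σ ∧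
      IsIso (q ∣_ (coneAlg (𝒜.toQCAlg.π ≫ p) p j0 (j0_comp p hj0)).spec.basicOpen (gfun _ W b)) := by
  obtain ⟨n, σ, hxσ, hσa⟩ := exists_sec_of_isAmple (hamp.2 ⟨W, hW⟩) hx
  obtain ⟨f, hf⟩ := exists_powFun jL hL σ
  change Γ(𝒜.toQCAlg.spec, (𝒜.toQCAlg.π ≫ p) ⁻¹ᵁ W) at f
  have hjf : j0.appLE ((𝒜.toQCAlg.π ≫ p) ⁻¹ᵁ W) (p ⁻¹ᵁ W) (preimage_eq (𝒜.toQCAlg.π ≫ p) p j0 (j0_comp p hj0) W).le f = 0 :=
    j0_powFun hA haug hj0 hL hf
  obtain ⟨b, hb1, hb2⟩ := exists_cone (𝒜.toQCAlg.π ≫ p) p j0 (j0_comp p hj0) f 0 (by rw [hjf, map_zero])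
  have hWq : (𝒜.toQCAlg.π ≫ p) ⁻¹ᵁ W = q ⁻¹ᵁ ((coneAlg (𝒜.toQCAlg.π ≫ p) p j0 (j0_comp p hj0)).π ⁻¹ᵁ W) := by
    rw [← Scheme.Hom.comp_preimage, hq]
  have hbas : q ⁻¹ᵁ (coneAlg (𝒜.toQCAlg.π ≫ p) p j0 (j0_comp p hj0)).spec.basicOpen (gfun (coneAlg (𝒜.toQCAlg.π ≫ p) p j0 (j0_comp p hj0)) W b) = V0 ⊓ 𝒜.toQCAlg.π ⁻¹ᵁ secLocus σ := by
    rw [preimage_basicOpen_appLE q hWq, hqf, hb1]
    exact basicOpen_powFun hA h0 haug hj0 hV0 hL hf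
  refine ⟨n, σ, f, b, hf, hb1, hb2, hxσ, hσa, hbas, ?_⟩
  refine isIso_restrict_basicOpen q (hW.preimage (coneAlg (𝒜.toQCAlg.π ≫ p) p j0 (j0_comp p hj0)).π) (gfun (coneAlg (𝒜.toQCAlg.π ≫ p) p j0 (j0_comp p hj0)) W b) hWq ((𝒜.toQCAlg.π ≫ p).isCompact_preimage hW.isCompact)
    ((𝒜.toQCAlg.π ≫ p).isQuasiSeparated_preimage hW.isQuasiSeparated) ?_ (fun y => ?_) fun z hz => ?_
  · rw [preimage_basicOpen_appLE q hWq, hqf, hb1]
    have hle : 𝒜.toQCAlg.π ⁻¹ᵁ secLocus σ ≤ (𝒜.toQCAlg.π ≫ p) ⁻¹ᵁ W := 𝒜.toQCAlg.π.preimage_mono (secLocus_le σ)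
    have h1 : IsAffineOpen (𝒜.toQCAlg.spec.basicOpen (ro hle f)) :=
      (hσa.preimage 𝒜.toQCAlg.π).basicOpen _
    rwa [Scheme.basicOpen_res, inf_eq_right.mpr] at h1
    exact (basicOpen_powFun hA h0 haug hj0 hV0 hL hf).le.trans inf_le_right
  · obtain ⟨c, hc1, -⟩ := exists_cone (𝒜.toQCAlg.π ≫ p) p j0 (j0_comp p hj0) (y * f) 0 (by rw [map_mul, hjf, mul_zero, map_zero])
    exact ⟨gfun (coneAlg (𝒜.toQCAlg.π ≫ p) p j0 (j0_comp p hj0)) W c, by rw [hqf, hqf, hb1]; exact hc1⟩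
  · obtain ⟨c, rfl⟩ : ∃ c, gfun (coneAlg (𝒜.toQCAlg.π ≫ p) p j0 (j0_comp p hj0)) W c = z := ⟨((coneAlg (𝒜.toQCAlg.π ≫ p) p j0 (j0_comp p hj0)).gammaMap.app (op W)).hom z,
      ConcreteCategory.congr_hom (NatTrans.congr_app (RelSpecAlg.gammaIso (coneAlg (𝒜.toQCAlg.π ≫ p) p j0 (j0_comp p hj0))).hom_inv_id (op W)) z⟩
    rw [hqf] at hz
    change (coneSheaf (𝒜.toQCAlg.π ≫ p) p j0 (j0_comp p hj0)).obj.obj (op W) at b
    let c' : (coneSheaf (𝒜.toQCAlg.π ≫ p) p j0 (j0_comp p hj0)).obj.obj (op W) := c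
    refine (map_mul _ _ _).symm.trans ?_
    show gfun (coneAlg (𝒜.toQCAlg.π ≫ p) p j0 (j0_comp p hj0)) W ((b * c' : (coneSheaf (𝒜.toQCAlg.π ≫ p) p j0 (j0_comp p hj0)).obj.obj (op W))) = 0
    rw [show b * c' = 0 from cone_ext (𝒜.toQCAlg.π ≫ p) p j0 (j0_comp p hj0) ?_ ?_]
    · exact map_zero _
    · rw [map_mul, map_zero]; exact mul_eq_zero_of_right _ hz
    · rw [map_mul, hb2, zero_mul, map_zero]

end Groth.L18.Contract
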